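import Cfsg.Agent.Lib.InvolRankOne.Setup
import Cfsg.Agent.Lib.Blocks.PConstrained
import Cfsg.Agent.Lib.PCore.Constrained

/-!
# Passing to the quotient by a normal subgroup of odd order

The principal block, the setup and the index of the centralizer of the Sylow subgroup in its
normalizer are unchanged.
-/

set_option autoImplicit false
set_option linter.style.haveILetI false
set_option linter.unusedSectionVars false

namespace Cfsg.Agent.InvolRankOne

open Cfsg Subgroup
open scoped ComplexConjugate Classical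

universe u

variable {G : Type u} [Group G] [Fintype G]

theorem pregSum_inflate {p : ℕ} [Fact p.Prime] (H : Subgroup G) [H.Normal] [Fintype (G ⧸ H)]
    (hHp : ¬ p ∣ Nat.card H) (ψ : IrrCharacter (G ⧸ H)) :
    BlockCount.pregSum p (Char.inflate H ψ).1 =
      (Nat.card H : ℂ) * BlockCount.pregSum p ψ.1 := by
  haveI := Fintype.ofFinite H
  have hp : p.Prime := Fact.out
  have hreg : ∀ g : G, p ∣ orderOf (g : G ⧸ H) ↔ p ∣ orderOf g := by
    refine fun g => ⟨fun h => h.trans (orderOf_map_dvd (QuotientGroup.mk' H) g), fun h => ?_⟩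
    have h1 : g ^ orderOf (g : G ⧸ H) ∈ H :=
      (QuotientGroup.eq_one_iff _).1 (by rw [QuotientGroup.mk_pow, pow_orderOf_eq_one])
    have h2 : g ^ (orderOf (g : G ⧸ H) * Nat.card H) = 1 := by
      rw [pow_mul]
      exact congrArg Subtype.val (pow_card_eq_one' (x := (⟨_, h1⟩ : H)))
    exact (hp.dvd_mul.1 (h.trans (orderOf_dvd_of_pow_eq_one h2))).resolve_right hHp
  rw [BlockCount.pregSum, BlockCount.pregSum, Finset.mul_sum,
    ← Finset.sum_fiberwise_of_maps_to (g := fun g : G => (g : G ⧸ H))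
      (t := Finset.univ.filter fun q : G ⧸ H => ¬ p ∣ orderOf q)
      (fun g hg => by simpa [hreg] using hg)]
  refine Finset.sum_congr rfl fun q hq => ?_
  simp only [Finset.mem_filter, Finset.mem_univ, true_and] at hq
  rw [Finset.sum_congr rfl (g := fun _ => ψ.1 q) fun g hg => by
    simp [(Finset.mem_filter.1 hg).2], Finset.sum_const, nsmul_eq_mul]
  congr 2
  obtain ⟨a, rfl⟩ := QuotientGroup.mk_surjective q
  rw [Nat.card_eq_fintype_card, ← Finset.card_univ]
  refine Finset.card_bij' (fun g hg => (⟨a⁻¹ * g, ?_⟩ : H)) (fun h _ => a * h) ?_ ?_ ?_ ?_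
  · exact QuotientGroup.eq.1 (Finset.mem_filter.1 hg).2.symm
  · intro g _; exact Finset.mem_univ _
  · intro h _
    have he : ((a * (h : G) : G) : G ⧸ H) = (a : G ⧸ H) := QuotientGroup.eq.2 (by simp)
    simp only [Finset.mem_filter, Finset.mem_univ, true_and]
    exact ⟨fun hd => hq (by rw [← he]; exact (hreg _).2 hd), he⟩
  · intro g _; simp
  · intro h _; ext; simp

/-- Inflation identifies the principal blocks of `G` and of `G ⧸ H`, `H` of order prime to `p`. -/
theorem card_principalBlock_quotient {p : ℕ} [Fact p.Prime] {M : Ideal AlgInt}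
    (hM : IsPModular p M) (H : Subgroup G) [H.Normal] [Fintype (G ⧸ H)]
    (hHp : ¬ p ∣ Nat.card H) :
    Nat.card (principalBlock M (G ⧸ H)) = Nat.card (principalBlock M G) := by
  haveI := hM.2.1
  refine Nat.card_congr (Equiv.ofBijective
    (fun ψ => (⟨Char.inflate H ψ.1, BlockCount.inflate_mem_principalBlock hM H hHp ψ.2⟩ :
      principalBlock M G)) ⟨?_, ?_⟩)
  · intro ψ ψ' h
    refine Subtype.ext (Subtype.ext (funext fun q => ?_))
    obtain ⟨g, rfl⟩ := QuotientGroup.mk_surjective q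
    exact congrArg (fun χ : principalBlock M G => χ.1.1 g) h
  · rintro ⟨χ, hχ⟩
    obtain ⟨ψ, hψ⟩ := Char.exists_descend H χ
      (BlockCount.apply_eq_one_of_mem_principalBlock hM H hHp hχ)
    have e : χ = Char.inflate H ψ := (Subtype.ext (funext hψ)).symm
    refine ⟨⟨ψ, BlockCount.mem_principalBlock_of_pregSum_ne_zero hM fun h0 => ?_⟩, Subtype.ext e.symm⟩
    have := BlockCount.pregSum_ne_zero hM hχ
    rw [e, pregSum_inflate H hHp, h0, mul_zero] at this
    exact this rfl

namespace Setup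

variable {P : Sylow 2 G} (S : Setup P)
include S

/-- The image of the setup in `G ⧸ H`, `H` of odd order. -/
theorem exists_quotient (H : Subgroup G) [H.Normal] (hH : Odd (Nat.card H)) :
    ∃ Q : Sylow 2 (G ⧸ H), Setup Q ∧
      Nat.card (Q : Subgroup (G ⧸ H)) = Nat.card (P : Subgroup G) ∧
      (centralizer ((Q : Subgroup (G ⧸ H)) : Set (G ⧸ H))).relIndex
        (normalizer ((Q : Subgroup (G ⧸ H)) : Set (G ⧸ H))) =
      (centralizer ((P : Subgroup G) : Set G)).relIndex
        (normalizer ((P : Subgroup G) : Set G)) := by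
  haveI : Fact (Nat.Prime 2) := ⟨Nat.prime_two⟩
  have hcop : (Nat.card H).Coprime 2 := Nat.coprime_two_right.2 hH
  have hinj : ∀ x ∈ (P : Subgroup G), x ∈ H → x = 1 := fun x hxP hxH => by
    by_contra hx1
    have h := hH.of_dvd_nat (H.orderOf_dvd_natCard hxH)
    rw [S.orderOf_eq_two hxP hx1] at h
    exact absurd h (by decide)
  let Q : Sylow 2 (G ⧸ H) := P.mapSurjective (QuotientGroup.mk'_surjective H)
  have hQ : (Q : Subgroup (G ⧸ H)) = (P : Subgroup G).map (QuotientGroup.mk' H) := rfl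
  have hcard : Nat.card (Q : Subgroup (G ⧸ H)) = Nat.card (P : Subgroup G) := by
    rw [hQ]
    refine (Nat.card_congr (Equiv.ofBijective
      (fun x : (P : Subgroup G) => (⟨QuotientGroup.mk' H x, mem_map_of_mem _ x.2⟩ :
        (P : Subgroup G).map (QuotientGroup.mk' H))) ⟨?_, ?_⟩)).symm
    · intro x y h
      have h' := QuotientGroup.eq.1 (congrArg Subtype.val h)
      exact Subtype.ext (inv_mul_eq_one.1 (hinj _ (mul_mem (inv_mem x.2) y.2) h'))
    · rintro ⟨_, x, hx, rfl⟩
      exact ⟨⟨x, hx⟩, rfl⟩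
  have hN := PCore.map_normalizer_mk' H hcop P.2
  -- an element of the normalizer is central modulo `H` only if it centralizes `P`
  have hcent : ∀ g ∈ normalizer ((P : Subgroup G) : Set G),
      (g : G ⧸ H) ∈ centralizer ((Q : Subgroup (G ⧸ H)) : Set (G ⧸ H)) →
      g ∈ centralizer ((P : Subgroup G) : Set G) := by
    intro g hg hgC
    refine mem_centralizer_iff.2 fun x hx => ?_
    have h := mem_centralizer_iff.1 hgC (x : G ⧸ H) (by rw [hQ]; exact mem_map_of_mem _ hx)
    have hm : g * x * g⁻¹ * x⁻¹ ∈ H := by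
      rw [← QuotientGroup.eq_one_iff]
      simp only [QuotientGroup.mk_mul, QuotientGroup.mk_inv]
      rw [← h]
      group
    have := hinj _ (mul_mem ((mem_normalizer_iff.1 hg x).1 hx) (inv_mem hx)) hm
    rw [mul_inv_eq_one, mul_inv_eq_iff_eq_mul] at this
    exact this.symm
  refine ⟨Q, ⟨?_, hcard ▸ S.big, ?_⟩, hcard, ?_⟩
  · rintro _ ⟨x, hx, rfl⟩
    rw [← map_mul, S.sq x hx, map_one]
  · intro g hg x hx hx1 hgx
    rw [hQ, ← hN] at hg
    obtain ⟨g₀, hg₀, rfl⟩ := hg
    rw [hQ] at hx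
    obtain ⟨x₀, hx₀, rfl⟩ := hx
    have hx₀1 : x₀ ≠ 1 := fun e => hx1 (by rw [e, map_one])
    have hm : g₀ * x₀ * g₀⁻¹ * x₀⁻¹ ∈ H := by
      rw [← QuotientGroup.eq_one_iff]
      simp only [QuotientGroup.mk_mul, QuotientGroup.mk_inv]
      rw [show ((g₀ : G ⧸ H) * (x₀ : G ⧸ H)) = (x₀ : G ⧸ H) * (g₀ : G ⧸ H) from hgx]
      group
    have h1 := hinj _ (mul_mem ((mem_normalizer_iff.1 hg₀ x₀).1 hx₀) (inv_mem hx₀)) hm
    rw [mul_inv_eq_one, mul_inv_eq_iff_eq_mul] at h1
    have hC := S.free g₀ hg₀ x₀ hx₀ hx₀1 h1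
    rw [hQ]
    refine mem_centralizer_iff.2 ?_
    rintro _ ⟨y, hy, rfl⟩
    rw [← map_mul, mem_centralizer_iff.1 hC y hy, map_mul]
  · rw [hQ, ← hN, ← relIndex_comap, ← inf_relIndex_right, ← inf_relIndex_right
      (centralizer ((P : Subgroup G) : Set G))]
    congr 1
    refine le_antisymm (fun g hg => ⟨hcent g hg.2 (hQ ▸ hg.1), hg.2⟩) fun g hg => ⟨?_, hg.2⟩
    refine mem_centralizer_iff.2 ?_
    rintro _ ⟨y, hy, rfl⟩
    show (y : G ⧸ H) * (g : G ⧸ H) = (g : G ⧸ H) * (y : G ⧸ H)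
    rw [← QuotientGroup.mk_mul, mem_centralizer_iff.1 hg.1 y hy, QuotientGroup.mk_mul]

end Setup

end Cfsg.Agent.InvolRankOne
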