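import Cfsg.Agent.Lib.InvolRankOne.Count
import Cfsg.Agent.Lib.InvolRankOne.Quotient
import Cfsg.Agent.S1225

/-!
# The principal block of an elementary abelian Sylow subgroup with free automizer

Modulo the largest normal subgroup of odd order, `P` is normal, or all its involutions are conjugate
and the group is `PSL(2, |P|)`.
-/

set_option autoImplicit false
set_option linter.style.haveILetI false
set_option linter.unusedSectionVars false

namespace Cfsg.Agent.InvolRankOne

open Cfsg Subgroup
open scoped ComplexConjugate Classical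

universe u

variable {G : Type u} [Group G]

theorem oddCore_quotient_eq_bot [Finite G] (K : Subgroup (G ⧸ pPrimeCore 2 G)) (hK : K.Normal)
    (hodd : Odd (Nat.card K)) : K = ⊥ := by
  have h : K ≤ pPrimeCore 2 (G ⧸ pPrimeCore 2 G) :=
    PCore.le_pPrimeCore (hN := hK) (Nat.coprime_two_right.2 hodd)
  rw [PCore.pPrimeCore_quotient_self_eq_bot] at h
  exact le_bot_iff.1 h

variable [Fintype G] {P : Sylow 2 G}

namespace Setup

variable (S : Setup P)
include S

/-- The orbit of a nontrivial element of `P` under the normalizer has the size of the automizer. -/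
theorem card_orbit_normalizer {a : G} (ha : a ∈ (P : Subgroup G)) (ha1 : a ≠ 1) :
    ((Finset.univ : Finset (normalizer ((P : Subgroup G) : Set G))).image
      fun n : normalizer ((P : Subgroup G) : Set G) => (n : G) * a * (n : G)⁻¹).card =
    (centralizer ((P : Subgroup G) : Set G)).relIndex (normalizer ((P : Subgroup G) : Set G)) := by
  set N := normalizer ((P : Subgroup G) : Set G)
  set C := (centralizer ((P : Subgroup G) : Set G)).subgroupOf N
  rw [relIndex, index_eq_card, ← Fintype.card_coe, ← Nat.card_eq_fintype_card]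
  refine (Nat.card_congr (Equiv.ofBijective
    (fun q : N ⧸ C => (⟨(q.out : G) * a * (q.out : G)⁻¹,
      Finset.mem_image.2 ⟨q.out, Finset.mem_univ _, rfl⟩⟩ :
      ((Finset.univ : Finset N).image fun n : N => (n : G) * a * (n : G)⁻¹))) ⟨?_, ?_⟩)).symm
  · intro q r h
    have h' := congrArg Subtype.val h
    simp only at h'
    rw [← Quotient.out_eq q, ← Quotient.out_eq r]
    refine QuotientGroup.eq.2 (mem_subgroupOf.2 (S.free _ (q.out⁻¹ * r.out).2 a ha ha1 ?_))
    push_cast
    have := congrArg (fun t => (q.out : G)⁻¹ * t * (r.out : G)) h'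
    simpa [mul_assoc] using this.symm
  · rintro ⟨t, ht⟩
    obtain ⟨n, -, rfl⟩ := Finset.mem_image.1 ht
    refine ⟨(n : N ⧸ C), Subtype.ext ?_⟩
    obtain ⟨c, hc⟩ := QuotientGroup.mk_out_eq_mul C n
    show ((n : N ⧸ C).out : G) * a * ((n : N ⧸ C).out : G)⁻¹ = (n : G) * a * (n : G)⁻¹
    rw [hc]
    have hca := mem_centralizer_iff.1 (mem_subgroupOf.1 c.2) a ha
    push_cast
    calc (n : G) * ((c : N) : G) * a * ((n : G) * ((c : N) : G))⁻¹
        = (n : G) * (((c : N) : G) * a) * ((c : N) : G)⁻¹ * (n : G)⁻¹ := by group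
      _ = (n : G) * a * (n : G)⁻¹ := by rw [← hca]; group

theorem transitive_of_le (he : Nat.card (P : Subgroup G) - 1 ≤
    (centralizer ((P : Subgroup G) : Set G)).relIndex (normalizer ((P : Subgroup G) : Set G))) :
    Transitive P := by
  intro a ha ha1 b hb hb1
  set N := normalizer ((P : Subgroup G) : Set G)
  set A := (Finset.univ : Finset N).image fun n : N => (n : G) * a * (n : G)⁻¹
  set T := (Finset.univ.filter fun t : G => t ∈ (P : Subgroup G)).erase 1
  have hsub : A ⊆ T := by
    intro t ht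
    obtain ⟨n, -, rfl⟩ := Finset.mem_image.1 ht
    refine Finset.mem_erase.2 ⟨fun h => ha1 (conj_eq_one_iff.1 h),
      Finset.mem_filter.2 ⟨Finset.mem_univ _, (mem_normalizer_iff.1 n.2 a).1 ha⟩⟩
  have hT : T.card = Nat.card (P : Subgroup G) - 1 := by
    rw [Finset.card_erase_of_mem (by simp), ← Fintype.card_subtype, ← Nat.card_eq_fintype_card]
  have hAT : A = T := Finset.eq_of_subset_of_card_le hsub (by
    rw [hT, S.card_orbit_normalizer ha ha1]; exact he)
  have hbT : b ∈ A := by rw [hAT]; simp [T, hb, hb1]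
  obtain ⟨n, -, hn⟩ := Finset.mem_image.1 hbT
  exact ⟨n, n.2, hn⟩

theorem le_of_transitive (hT : Transitive P) : Nat.card (P : Subgroup G) - 1 ≤
    (centralizer ((P : Subgroup G) : Set G)).relIndex (normalizer ((P : Subgroup G) : Set G)) := by
  obtain ⟨a, ha, ha1⟩ : ∃ a ∈ (P : Subgroup G), a ≠ 1 := by
    by_contra h
    push Not at h
    have := S.big
    rw [(eq_bot_iff_forall _).2 h, card_bot] at this
    omega
  rw [← S.card_orbit_normalizer ha ha1]
  refine le_trans (le_of_eq ?_) (Finset.card_le_card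
    (s := (Finset.univ.filter fun t : G => t ∈ (P : Subgroup G)).erase 1) fun t ht => ?_)
  · rw [Finset.card_erase_of_mem (by simp), ← Fintype.card_subtype, ← Nat.card_eq_fintype_card]
  · obtain ⟨ht1, htP⟩ := Finset.mem_erase.1 ht
    obtain ⟨n, hn, he⟩ := hT a ha ha1 t (Finset.mem_filter.1 htP).2 ht1
    exact Finset.mem_image.2 ⟨⟨n, hn⟩, Finset.mem_univ _, he⟩

variable {M : Ideal AlgInt} [Fact (Nat.Prime 2)] [M.IsMaximal]

/-- The counts when there is no normal subgroup of odd order. -/
theorem card_principal_of_core (hM : IsPModular 2 M)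
    (hO : ∀ K : Subgroup G, K.Normal → Odd (Nat.card K) → K = ⊥) {e : ℕ}
    (he : (centralizer ((P : Subgroup G) : Set G)).relIndex
      (normalizer ((P : Subgroup G) : Set G)) = e) :
    (Nat.card (P : Subgroup G) = 16 → e = 5 → Nat.card (principalBlock M G) = 8) ∧
    (Nat.card (P : Subgroup G) = 8 → e = 7 → Nat.card (principalBlock M G) = 8) ∧
    (Nat.card (P : Subgroup G) = 16 → e = 15 → Nat.card (principalBlock M G) = 16) := by
  by_cases hMt : InvolRankOne.M P = ⊤
  · obtain ⟨hn, hC⟩ := S.normal_of_eq_top hO hMt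
    have hidx : (P : Subgroup G).index = e := by
      rw [← he, hC, normalizer_eq_top_iff.2 hn, relIndex_top_right]
    obtain ⟨h5, h7, h15⟩ := S.card_of_normal hM hn hC hidx
    exact ⟨h5, h7, fun hq h => h15 (S.transitive_of_le (by omega)) hq h⟩
  -- otherwise all involutions are conjugate
  have hSE := S.isStronglyEmbedded hMt
  obtain ⟨u, hu, huM⟩ := Involution.StrongEmb.exists_involution_not_mem hSE
  have hconj : ∀ a b : G, orderOf a = 2 → orderOf b = 2 → IsConj a b := by
    obtain ⟨s, hs, hs1⟩ := S.exists_mem_ne_one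
    exact (S1225.result _ hSE u huM hu s s (S.orderOf_eq_two hs hs1) (S.P_le_M hs)
      (S.orderOf_eq_two hs hs1) (S.P_le_M hs)).2
  have hT : Transitive P := by
    intro a ha ha1 b hb hb1
    obtain ⟨g, hg⟩ := isConj_iff.1 (hconj a b (S.orderOf_eq_two ha ha1) (S.orderOf_eq_two hb hb1))
    have hcomm : IsMulCommutative (P : Subgroup G) := ⟨⟨fun x y => Subtype.ext (S.comm x.2 y.2)⟩⟩
    obtain ⟨n, hn, hne⟩ := Sylow.conj_eq_normalizer_conj_of_mem P a g⁻¹ ha (by
      rw [inv_inv, hg]; exact hb)
    exact ⟨n⁻¹, inv_mem hn, by rw [inv_inv, ← hne, inv_inv, hg]⟩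
  have hle := S.le_of_transitive hT
  rw [he] at hle
  refine ⟨fun hq h5 => absurd hle (by omega), fun hq h7 => ?_, fun hq h15 => ?_⟩
  all_goals
    rcases S.normal_or_psl (by omega) (by rw [he]; omega) hO hT hM with ⟨hn, -⟩ | ⟨F, hF, hFf, hcard, ⟨e'⟩⟩
    · refine absurd ?_ hMt
      exact top_le_iff.1 ((normalizer_eq_top_iff.2 hn).ge.trans le_sup_right)
    · have hW : W P = ⊥ := S.W_eq_bot (by omega) (by rw [he]; omega) hO hT hM hMt
      exact (S.card_of_psl hM hcard e' fun a ha ha1 =>
        eq_bot_iff.2 ((S.O_le_W ha ha1).trans hW.le)).trans hq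

/-- The counts. -/
theorem card_principal (hM : IsPModular 2 M) {e : ℕ}
    (he : (centralizer ((P : Subgroup G) : Set G)).relIndex
      (normalizer ((P : Subgroup G) : Set G)) = e) :
    (Nat.card (P : Subgroup G) = 16 → e = 5 → Nat.card (principalBlock M G) = 8) ∧
    (Nat.card (P : Subgroup G) = 8 → e = 7 → Nat.card (principalBlock M G) = 8) ∧
    (Nat.card (P : Subgroup G) = 16 → e = 15 → Nat.card (principalBlock M G) = 16) := by
  have hodd : Odd (Nat.card (pPrimeCore 2 G)) :=
    Nat.coprime_two_right.1 PCore.coprime_card_pPrimeCore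
  haveI := Fintype.ofFinite (G ⧸ pPrimeCore 2 G)
  obtain ⟨Q, SQ, hcard, hidx⟩ := S.exists_quotient (pPrimeCore 2 G) hodd
  rw [← card_principalBlock_quotient hM (pPrimeCore 2 G) PCore.not_dvd_card_pPrimeCore, ← hcard]
  exact SQ.card_principal_of_core hM oddCore_quotient_eq_bot (hidx.trans he)

end Setup

end Cfsg.Agent.InvolRankOne
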