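import Cfsg.Agent.Lib.InvolRankOne.Values

/-!
# The class sum bound

The product of a class of involutions with itself, counted on a coset `u O(C(u))`: the principal
block alone contributes, and the count is at most `(|P| - 2) |W|` by the four-group inequality.
-/

set_option autoImplicit false
set_option linter.style.haveILetI false
set_option linter.unusedSectionVars false

namespace Cfsg.Agent.InvolRankOne

open Cfsg Subgroup
open scoped ComplexConjugate Classical

universe u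

variable {G : Type u} [Group G]

theorem eq_one_of_conj_inv {K : Subgroup G} (hK : Odd (Nat.card K)) {z x : G} (hz : z ∈ K)
    (hx : x ∈ K) (h : z * x * z⁻¹ = x⁻¹) : x = 1 := by
  obtain ⟨k, hk⟩ : Odd (orderOf z) := hK.of_dvd_nat (K.orderOf_dvd_natCard hz)
  have h2 : z * z * x * (z * z)⁻¹ = x := by
    calc z * z * x * (z * z)⁻¹ = z * (z * x * z⁻¹) * z⁻¹ := by group
      _ = z * x⁻¹ * z⁻¹ := by rw [h]
      _ = (z * x * z⁻¹)⁻¹ := by group
      _ = x := by rw [h, inv_inv]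
  have hc : Commute (z * z) x := mul_inv_eq_iff_eq_mul.1 h2
  have hz' : z = (z * z) ^ (k + 1) := by
    rw [← pow_two, ← pow_mul, show 2 * (k + 1) = orderOf z + 1 by omega, pow_succ, pow_orderOf_eq_one,
      one_mul]
  have hc' : Commute z x := by rw [hz']; exact hc.pow_left _
  rw [hc'.eq, mul_inv_cancel_right, eq_inv_iff_mul_eq_one] at h
  have h1 : orderOf x ∣ 2 := orderOf_dvd_of_pow_eq_one (by rw [pow_two, h])
  have h3 : Odd (orderOf x) := hK.of_dvd_nat (K.orderOf_dvd_natCard hx)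
  rcases (Nat.dvd_prime Nat.prime_two).1 h1 with e | e
  · exact orderOf_eq_one_iff.1 e
  · rw [e] at h3; exact absurd h3 (by decide)

/-- All involutions of `P` are conjugate under its normalizer. -/
def Transitive (P : Sylow 2 G) : Prop :=
  ∀ a ∈ (P : Subgroup G), a ≠ 1 → ∀ b ∈ (P : Subgroup G), b ≠ 1 →
    ∃ n ∈ normalizer ((P : Subgroup G) : Set G), n * a * n⁻¹ = b

namespace Setup

variable [Fintype G] {P : Sylow 2 G} (S : Setup P)
include S

theorem card_O_eq (hT : Transitive P) {a b : G} (ha : a ∈ (P : Subgroup G)) (ha1 : a ≠ 1)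
    (hb : b ∈ (P : Subgroup G)) (hb1 : b ≠ 1) : Nat.card (O a) = Nat.card (O b) := by
  obtain ⟨n, -, rfl⟩ := hT a ha ha1 b hb hb1
  have h : Nat.card (centralizer ({a} : Set G)) = Nat.card (centralizer ({n * a * n⁻¹} : Set G)) := by
    refine Nat.card_congr ((MulAut.conj n).toEquiv.subtypeEquiv fun x => ?_)
    simp only [mem_centralizer_singleton_iff]
    change x * a = a * x ↔ (n * x * n⁻¹) * (n * a * n⁻¹) = (n * a * n⁻¹) * (n * x * n⁻¹)
    constructor
    · intro h
      calc n * x * n⁻¹ * (n * a * n⁻¹) = n * (x * a) * n⁻¹ := by group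
        _ = n * (a * x) * n⁻¹ := by rw [h]
        _ = n * a * n⁻¹ * (n * x * n⁻¹) := by group
    · intro h
      have := congrArg (fun t => n⁻¹ * t * n) h
      simpa [mul_assoc] using this
  rw [S.card_C ha ha1, S.card_C hb hb1] at h
  exact Nat.eq_of_mul_eq_mul_left Nat.card_pos h

/-- The four-group inequality. -/
theorem four_group {a b : G} (ha : a ∈ (P : Subgroup G)) (ha1 : a ≠ 1) (hb : b ∈ (P : Subgroup G))
    (hb1 : b ≠ 1) (hab : a ≠ b) :
    Nat.card (O a) * Nat.card (O b) * Nat.card (O (a * b)) ≤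
      Nat.card (W P) * (Nat.card (O a ⊓ centralizer {b} : Subgroup G) *
        Nat.card (O a ⊓ centralizer {b} : Subgroup G)) := by
  have hc := mul_mem ha hb
  have hc1 : a * b ≠ 1 := fun h => hab (by rw [mul_eq_one_iff_eq_inv.1 h, S.inv_eq hb])
  set V := O a ⊓ centralizer {b}
  have hOW : ∀ {t x : G}, t ∈ (P : Subgroup G) → t ≠ 1 → x ∈ O t → x ∈ W P :=
    fun ht ht1 hx => S.O_le_W ht ht1 hx
  let f : O a × O b × O (a * b) → W P := fun x =>
    ⟨x.1 * x.2.1 * x.2.2, mul_mem (mul_mem (hOW ha ha1 x.1.2) (hOW hb hb1 x.2.1.2))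
      (hOW hc hc1 x.2.2.2)⟩
  let r : W P → O a × O b × O (a * b) := fun z => if h : ∃ y, f y = z then h.choose else 1
  have hr : ∀ x, f (r (f x)) = f x := fun x => by
    simp only [r, dif_pos (⟨x, rfl⟩ : ∃ y, f y = f x)]
    exact (⟨x, rfl⟩ : ∃ y, f y = f x).choose_spec
  -- two factorizations differ by elements centralizing the four-group
  have key : ∀ x y, f x = f y →
      ((y.1 : G))⁻¹ * x.1 ∈ V ∧ (y.2.2 : G) * (x.2.2 : G)⁻¹ ∈ V := by
    intro x y h
    have h0 := congrArg Subtype.val h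
    simp only [f] at h0
    set A : G := ((y.1 : G))⁻¹ * x.1 with hA
    set B : G := (x.2.1 : G)
    set D : G := (y.2.1 : G)
    set C : G := (y.2.2 : G) * (x.2.2 : G)⁻¹ with hCdef
    have hAO : A ∈ O a := mul_mem (inv_mem y.1.2) x.1.2
    have hCO : C ∈ O (a * b) := mul_mem y.2.2.2 (inv_mem x.2.2.2)
    have e1 : A * B = D * C := by
      rw [hA, hCdef, ← mul_assoc D, eq_mul_inv_iff_mul_eq, mul_assoc, mul_assoc, inv_mul_eq_iff_eq_mul,
        ← mul_assoc, h0, ← mul_assoc]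
    have hfix : ∀ {t x : G}, t ∈ (P : Subgroup G) → x ∈ O t → t * x * t⁻¹ = x :=
      fun {t x} ht hx => by
      have := mem_centralizer_singleton_iff.1 (S.O_le ht hx)
      rw [← this, mul_inv_cancel_right]
    have hA' := hfix ha hAO
    have hB' := hfix hb x.2.1.2
    have hD' := hfix hb y.2.1.2
    have hC' : a * (b * C * b⁻¹) * a⁻¹ = C := by
      rw [show a * (b * C * b⁻¹) * a⁻¹ = (a * b) * C * (a * b)⁻¹ by group]; exact hfix hc hCO
    have hcomm : a * b = b * a := S.comm ha hb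
    have hC'' : b * C * b⁻¹ = a * C * a⁻¹ := by
      have := congrArg (fun t => a⁻¹ * t * a) hC'
      rw [show a⁻¹ * (a * (b * C * b⁻¹) * a⁻¹) * a = b * C * b⁻¹ by group] at this
      rw [this, S.inv_eq ha]
    have eu : A * (a * B * a⁻¹) = (a * D * a⁻¹) * (b * C * b⁻¹) := by
      rw [hC'']
      calc A * (a * B * a⁻¹) = (a * A * a⁻¹) * (a * B * a⁻¹) := by rw [hA']
        _ = a * (A * B) * a⁻¹ := by group
        _ = (a * D * a⁻¹) * (a * C * a⁻¹) := by rw [e1]; group
    have ev : (b * A * b⁻¹) * B = D * (b * C * b⁻¹) := by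
      calc (b * A * b⁻¹) * B = (b * A * b⁻¹) * (b * B * b⁻¹) := by rw [hB']
        _ = b * (A * B) * b⁻¹ := by group
        _ = (b * D * b⁻¹) * (b * C * b⁻¹) := by rw [e1]; group
        _ = D * (b * C * b⁻¹) := by rw [hD']
    have euv : (b * A * b⁻¹) * (a * B * a⁻¹) = (a * D * a⁻¹) * C := by
      calc (b * A * b⁻¹) * (a * B * a⁻¹) = (b * (a * A * a⁻¹) * b⁻¹) * (a * (b * B * b⁻¹) * a⁻¹) := by
            rw [hA', hB']
        _ = (b * a) * A * (b * a)⁻¹ * ((a * b) * B * (a * b)⁻¹) := by group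
        _ = (a * b) * (A * B) * (a * b)⁻¹ := by rw [← hcomm]; group
        _ = (a * (b * D * b⁻¹) * a⁻¹) * (a * (b * C * b⁻¹) * a⁻¹) := by rw [e1]; group
        _ = (a * D * a⁻¹) * C := by rw [hC', hD']
    set A' : G := b * A * b⁻¹
    set C' : G := b * C * b⁻¹
    set B' : G := a * B * a⁻¹
    set D' : G := a * D * a⁻¹
    set X : G := C'⁻¹ * C with hX
    have f1 : A'⁻¹ * A = B * X * B⁻¹ := by
      rw [eq_mul_inv_iff_mul_eq, mul_assoc, e1, inv_mul_eq_iff_eq_mul,
        show A' * (B * X) = (A' * B) * X by group, ev, hX]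
      group
    have f2 : A'⁻¹ * A = B' * X⁻¹ * B'⁻¹ := by
      rw [eq_mul_inv_iff_mul_eq, mul_assoc, eu, inv_mul_eq_iff_eq_mul,
        show A' * (B' * X⁻¹) = (A' * B') * X⁻¹ by group, euv, hX]
      group
    have hCW : C ∈ W P := hOW hc hc1 hCO
    have hBW : B ∈ W P := hOW hb hb1 x.2.1.2
    have hconjW : ∀ {t w : G}, t ∈ (P : Subgroup G) → w ∈ W P → t * w * t⁻¹ ∈ W P :=
      fun ht hw => (mem_normalizer_iff.1 (S.N_le_normalizer_W (le_normalizer ht)) _).1 hw
    have hXW : X ∈ W P := mul_mem (inv_mem (hconjW hb hCW)) hCW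
    have hX1 : X = 1 := by
      refine eq_one_of_conj_inv S.W_odd (mul_mem (inv_mem (hconjW ha hBW)) hBW) hXW ?_
      calc B'⁻¹ * B * X * (B'⁻¹ * B)⁻¹ = B'⁻¹ * (B * X * B⁻¹) * B' := by group
        _ = X⁻¹ := by rw [← f1, f2]; group
    have hCC : C' = C := inv_mul_eq_one.1 hX1
    have hAA : A' = A := inv_mul_eq_one.1 (f1.trans (by rw [hX1]; group))
    have hbmem : ∀ {t : G}, b * t * b⁻¹ = t → t ∈ centralizer ({b} : Set G) := fun h =>
      mem_centralizer_singleton_iff.2 (mul_inv_eq_iff_eq_mul.1 h).symm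
    refine ⟨⟨hAO, hbmem hAA⟩, ?_, hbmem hCC⟩
    refine (S.mem_O_iff ha ha1).2 ⟨mem_centralizer_singleton_iff.2 (mul_inv_eq_iff_eq_mul.1 ?_).symm,
      ((S.mem_O_iff hc hc1).1 hCO).2⟩
    rw [← hC'', hCC]
  rw [← Nat.card_prod (O a) (O b), ← Nat.card_prod (O a × O b) (O (a * b)), ← Nat.card_prod V V,
    ← Nat.card_prod (W P) (V × V)]
  refine (Nat.card_congr (Equiv.prodAssoc (O a) (O b) (O (a * b)))).trans_le ?_
  refine Nat.card_le_card_of_injective (fun x => (f x,
    ((⟨_, (key x (r (f x)) (hr x).symm).1⟩ : V), (⟨_, (key x (r (f x)) (hr x).symm).2⟩ : V)))) ?_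
  intro x y h
  simp only [Prod.mk.injEq, Subtype.mk.injEq] at h
  obtain ⟨h, h1, h2⟩ := h
  rw [h] at h1 h2
  have e1 : x.1 = y.1 := Subtype.ext (mul_left_cancel h1)
  have e3 : x.2.2 = y.2.2 := Subtype.ext (inv_injective (mul_left_cancel h2))
  have h'' := congrArg Subtype.val h
  simp only [f, e1, e3] at h''
  exact Prod.ext e1 (Prod.ext (Subtype.ext (mul_left_cancel (mul_right_cancel h''))) e3)

variable {M : Ideal AlgInt} [Fact (Nat.Prime 2)] [M.IsMaximal]

/-- The conjugates of `e` under `O u`. -/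
noncomputable def orbit (u e : G) : Finset G :=
  (Finset.univ : Finset (O u)).image fun d : O u => (d : G) * e * (d : G)⁻¹

theorem card_orbit_mul {u e : G} (_hu : u ∈ (P : Subgroup G)) :
    (orbit u e).card * Nat.card (O u ⊓ centralizer {e} : Subgroup G) = Nat.card (O u) := by
  rw [Nat.card_eq_fintype_card (α := O u), ← Finset.card_univ, orbit,
    Finset.card_eq_sum_card_image (fun d : O u => (d : G) * e * (d : G)⁻¹) (Finset.univ : Finset (O u))]
  rw [Finset.sum_congr rfl (g := fun _ => Nat.card (O u ⊓ centralizer {e} : Subgroup G)),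
    Finset.sum_const, smul_eq_mul]
  intro t ht
  obtain ⟨d₀, -, rfl⟩ := Finset.mem_image.1 ht
  rw [← Fintype.card_subtype, ← Nat.card_eq_fintype_card]
  refine Nat.card_congr
    { toFun := fun d => ⟨(d₀ : G)⁻¹ * (d.1 : G), mem_inf.2 ⟨mul_mem (inv_mem d₀.2) d.1.2, ?_⟩⟩
      invFun := fun c => ⟨d₀ * ⟨c.1, c.2.1⟩, ?_⟩
      left_inv := fun d => Subtype.ext (Subtype.ext (by simp))
      right_inv := fun c => Subtype.ext (by simp) }
  · refine mem_centralizer_singleton_iff.2 ?_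
    have h := congrArg (fun t => (d₀ : G)⁻¹ * t * d.1) d.2
    simpa [mul_assoc] using h
  · have hc := mem_centralizer_singleton_iff.1 c.2.2
    simp only [coe_mul]
    rw [show (d₀ : G) * c.1 * e * ((d₀ : G) * c.1)⁻¹ =
      d₀ * (c.1 * e) * c.1⁻¹ * (d₀ : G)⁻¹ by group, hc]
    group

theorem conj_mem_orbit {u e c : G} (hu : u ∈ (P : Subgroup G)) (hu1 : u ≠ 1)
    (he : e ∈ (P : Subgroup G)) (hc : c ∈ O u) (h2 : e * c * (e * c) = 1) :
    e * c ∈ orbit u e := by
  obtain ⟨d, hd, hde⟩ := BlockCount.exists_conj_eq_of_coset (S.O_odd hu hu1) (S.sq e he) hc h2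
  exact Finset.mem_image.2 ⟨⟨d, hd⟩, Finset.mem_univ _, hde⟩

/-- Pairs of conjugates of `u` with product in `u O(C(u))`. -/
noncomputable def pairs (u : G) : Finset (G × G) :=
  Finset.univ.filter fun x => IsConj u x.1 ∧ IsConj u x.2 ∧ u⁻¹ * (x.1 * x.2) ∈ O u

theorem card_pairs_le {u : G} (hu : u ∈ (P : Subgroup G)) (hu1 : u ≠ 1) :
    (pairs u).card ≤ ∑ e ∈ Finset.univ.filter
      (fun e => e ∈ (P : Subgroup G) ∧ e ≠ 1 ∧ e ≠ u), (orbit u e).card * (orbit u (e * u)).card := by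
  refine le_trans (Finset.card_le_card (t := (Finset.univ.filter
    (fun e => e ∈ (P : Subgroup G) ∧ e ≠ 1 ∧ e ≠ u)).biUnion
      fun e => orbit u e ×ˢ orbit u (e * u)) ?_) (Finset.card_biUnion_le.trans (by
        simp [Finset.card_product]))
  rintro ⟨a, b⟩ hab
  obtain ⟨-, ha, hb, hy⟩ := Finset.mem_filter.1 hab
  set y := u⁻¹ * (a * b) with hy'
  have ho2 : ∀ {t : G}, IsConj u t → t * t = 1 := by
    intro t ht
    obtain ⟨g, rfl⟩ := isConj_iff.1 ht
    rw [show g * u * g⁻¹ * (g * u * g⁻¹) = g * (u * u) * g⁻¹ by group, S.sq u hu]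
    group
  have hne : ∀ {t : G}, IsConj u t → t ≠ 1 := by
    rintro t ht rfl
    exact hu1 (isConj_one_left.1 ht)
  have hnotO : ∀ {t : G}, IsConj u t → t ∉ O u := by
    intro t ht htO
    have h1 := ((S.mem_O_iff hu hu1).1 htO).2
    rw [orderOf_eq_prime (by rw [pow_two]; exact ho2 ht) (hne ht)] at h1
    exact absurd h1 (by decide)
  have hz : a * b = u * y := by rw [hy', mul_inv_cancel_left]
  obtain ⟨hyC, hyodd⟩ := (S.mem_O_iff hu hu1).1 hy
  have huy : Commute u y := (mem_centralizer_singleton_iff.1 hyC).symm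
  have hn : (u * y) ^ orderOf y = u := by
    obtain ⟨j, hj⟩ := hyodd
    rw [huy.mul_pow, pow_orderOf_eq_one, mul_one, hj, pow_succ, pow_mul, pow_two, S.sq u hu,
      one_pow, one_mul]
  have hinv : a * (u * y) * a⁻¹ = (u * y)⁻¹ := by
    rw [← hz, inv_eq_of_mul_eq_one_right (ho2 ha), mul_inv_rev,
      inv_eq_of_mul_eq_one_right (ho2 ha), inv_eq_of_mul_eq_one_right (ho2 hb),
      ← mul_assoc, ho2 ha, one_mul]
  have haC : a ∈ centralizer ({u} : Set G) := by
    refine mem_centralizer_singleton_iff.2 (mul_inv_eq_iff_eq_mul.1 ?_)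
    have := congrArg (· ^ orderOf y) hinv
    simp only [conj_pow, inv_pow, hn, S.inv_eq hu] at this
    exact this
  obtain ⟨y₁, hy₁, e, he, rfl⟩ := S.exists_decomp hu hu1 haC
  set c := e⁻¹ * y₁ * e with hc
  have hcO : c ∈ O u := by
    simpa [hc] using S.conj_mem_O hu hu1 (inv_mem (S.le_cent hu he)) hy₁
  have hae : y₁ * e = e * c := by rw [hc]; group
  have hbe : b = (e * u) * (c * y) := by
    have h1 : b = (y₁ * e)⁻¹ * (u * y) := by rw [← hz, inv_mul_cancel_left]
    have h2 : c * u = u * c := mem_centralizer_singleton_iff.1 (S.O_le hu hcO)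
    rw [h1, inv_eq_of_mul_eq_one_right (ho2 ha), hae,
      show e * c * (u * y) = e * (c * u) * y by group, h2]
    group
  refine Finset.mem_biUnion.2 ⟨e, Finset.mem_filter.2 ⟨Finset.mem_univ _, he, ?_, ?_⟩,
    Finset.mem_product.2 ⟨?_, ?_⟩⟩
  · rintro rfl
    exact hnotO ha (by rwa [mul_one])
  · rintro rfl
    refine hnotO hb ?_
    have : b = c * y := by rw [hbe, S.sq e hu, one_mul]
    rw [this]; exact mul_mem hcO hy
  · show y₁ * e ∈ orbit u e
    have := S.conj_mem_orbit hu hu1 he hcO (by rw [← hae]; exact ho2 ha)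
    rwa [← hae] at this
  · show b ∈ orbit u (e * u)
    have := S.conj_mem_orbit hu hu1 (mul_mem he hu) (mul_mem hcO hy) (by rw [← hbe]; exact ho2 hb)
    rwa [← hbe] at this

theorem card_pairs_mul_le (hT : Transitive P) {u : G} (hu : u ∈ (P : Subgroup G)) (hu1 : u ≠ 1) :
    (pairs u).card * Nat.card (O u) ≤ (Nat.card (P : Subgroup G) - 2) * Nat.card (W P) := by
  refine le_trans (Nat.mul_le_mul_right _ (S.card_pairs_le hu hu1)) ?_
  rw [Finset.sum_mul]
  refine le_trans (Finset.sum_le_card_nsmul _ _ (Nat.card (W P)) fun e he => ?_) ?_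
  · obtain ⟨-, heP, he1, heu⟩ := Finset.mem_filter.1 he
    have h1 := S.card_orbit_mul (u := u) (e := e) hu
    have h2 := S.card_orbit_mul (u := u) (e := e * u) hu
    have hc : (O u ⊓ centralizer {e} : Subgroup G) = O u ⊓ centralizer {e * u} := by
      ext x
      simp only [mem_inf, mem_centralizer_singleton_iff]
      refine and_congr_right fun hx => ?_
      have hxu : x * u = u * x := mem_centralizer_singleton_iff.1 (S.O_le hu hx)
      constructor
      · intro h
        rw [← mul_assoc, h, mul_assoc, hxu, ← mul_assoc]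
      · intro h
        rw [← mul_assoc, mul_assoc e u x, ← hxu, ← mul_assoc] at h
        exact mul_right_cancel h
    rw [← hc] at h2
    have h4 := S.four_group hu hu1 heP he1 (Ne.symm heu)
    have hue1 : u * e ≠ 1 := fun h => heu (by rw [← inv_eq_of_mul_eq_one_right h, S.inv_eq hu])
    rw [← S.card_O_eq hT hu hu1 heP he1,
      ← S.card_O_eq hT hu hu1 (mul_mem hu heP) hue1] at h4
    set c := Nat.card (O u ⊓ centralizer {e} : Subgroup G)
    have hc0 : 0 < c * c := Nat.mul_pos Nat.card_pos Nat.card_pos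
    refine Nat.le_of_mul_le_mul_right ?_ hc0
    calc (orbit u e).card * (orbit u (e * u)).card * Nat.card (O u) * (c * c)
        = ((orbit u e).card * c) * ((orbit u (e * u)).card * c) * Nat.card (O u) := by ring
      _ = Nat.card (O u) * Nat.card (O u) * Nat.card (O u) := by rw [h1, h2]
      _ ≤ Nat.card (W P) * (c * c) := h4
  · rw [smul_eq_mul]
    refine Nat.mul_le_mul_right _ (le_of_eq ?_)
    have : (Finset.univ.filter fun e : G => e ∈ (P : Subgroup G) ∧ e ≠ 1 ∧ e ≠ u) =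
        ((Finset.univ.filter fun e : G => e ∈ (P : Subgroup G)).erase 1).erase u := by
      ext e; simp; tauto
    rw [this, Finset.card_erase_of_mem (by simp [hu, hu1]), Finset.card_erase_of_mem (by simp),
      ← Fintype.card_subtype, ← Nat.card_eq_fintype_card]
    show Nat.card (P : Subgroup G) - 1 - 1 = _
    omega

/-- The class sum bound on the principal block. -/
theorem sum_cube_le (hM : IsPModular 2 M) (hT : Transitive P) {u : G} (hu : u ∈ (P : Subgroup G))
    (hu1 : u ≠ 1) (d : IrrCharacter G → ℤ) (hd : ∀ χ, χ.1 u = d χ) :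
    (∑ χ ∈ Finset.univ.filter (· ∈ principalBlock M G), (d χ : ℝ) ^ 3 / charDegree χ.1) *
        Nat.card G ≤
      (Nat.card (P : Subgroup G) ^ 2 * (Nat.card (P : Subgroup G) - 2) * Nat.card (W P) : ℕ) := by
  set q := Nat.card (P : Subgroup G)
  set k := Nat.card (O u)
  set R := ∑ χ ∈ Finset.univ.filter (· ∈ principalBlock M G), (d χ : ℝ) ^ 3 / charDegree χ.1
  set C := centralizer ({u} : Set G)
  let S₁ := {x : G × G // IsConj u (x.1 * u * x.1⁻¹) ∧ (x.1 * u * x.1⁻¹, x.2 * u * x.2⁻¹) ∈ pairs u}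
  have hS₁ : Nat.card S₁ ≤ (pairs u).card * (Nat.card C * Nat.card C) := by
    rw [← Fintype.card_coe, ← Nat.card_eq_fintype_card, ← Nat.card_prod, ← Nat.card_prod]
    let r : G → G := fun t => if h : ∃ g, g * u * g⁻¹ = t then h.choose else 1
    have hr : ∀ g, r (g * u * g⁻¹) * u * (r (g * u * g⁻¹))⁻¹ = g * u * g⁻¹ := fun g => by
      simp only [r, dif_pos (⟨g, rfl⟩ : ∃ g', g' * u * g'⁻¹ = g * u * g⁻¹)]
      exact (⟨g, rfl⟩ : ∃ g', g' * u * g'⁻¹ = g * u * g⁻¹).choose_spec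
    have hm : ∀ g, (r (g * u * g⁻¹))⁻¹ * g ∈ C := fun g => by
      refine mem_centralizer_singleton_iff.2 ?_
      have := congrArg (fun t => (r (g * u * g⁻¹))⁻¹ * t * g) (hr g)
      simpa [mul_assoc] using this.symm
    refine Nat.card_le_card_of_injective
      (fun x => (⟨(x.1.1 * u * x.1.1⁻¹, x.1.2 * u * x.1.2⁻¹), x.2.2⟩,
        (⟨_, hm x.1.1⟩, ⟨_, hm x.1.2⟩))) ?_
    intro x y h
    simp only [Prod.mk.injEq, Subtype.mk.injEq] at h
    obtain ⟨⟨h1, h2⟩, h3, h4⟩ := h
    rw [h1] at h3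
    rw [h2] at h4
    exact Subtype.ext (Prod.ext (mul_left_cancel h3) (mul_left_cancel h4))
  have hterm : ∀ y : O u, ∑ χ : IrrCharacter G, χ.1 u * χ.1 u * conj (χ.1 (u * y)) / χ.1 1 =
      (Nat.card {p : G × G // p.1 * (u * (p.2 * u * p.2⁻¹)) * p.1⁻¹ = u * y} : ℂ) / Nat.card G := by
    intro y
    rw [BlockCount.sum_irr_mul_mul_conj_div, ← Nat.cast_mul]
    congr 2
    rw [Nat.card_congr (((Equiv.prodComm G G).subtypeEquiv
          (p := fun p => p.1 * (u * (p.2 * u * p.2⁻¹)) * p.1⁻¹ = u * (y : G))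
          (q := fun p => p.2 * (u * (p.1 * u * p.1⁻¹)) * p.2⁻¹ = u * (y : G)) fun p => Iff.rfl).trans
        (Equiv.subtypeProdEquivSigmaSubtype
          fun x g => g * (u * (x * u * x⁻¹)) * g⁻¹ = u * (y : G))), Nat.card_sigma]
    simp only [card_conj_eq]
    rw [Finset.sum_ite, Finset.sum_const_zero, add_zero, Finset.sum_const, smul_eq_mul, mul_comm,
      Nat.card_eq_fintype_card (α := {x : G // IsConj (u * (x * u * x⁻¹)) (u * (y : G))}),
      Fintype.card_subtype]
  have hsum : ∑ y : O u, Nat.card {p : G × G // p.1 * (u * (p.2 * u * p.2⁻¹)) * p.1⁻¹ = u * y} ≤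
      Nat.card S₁ := by
    rw [← Nat.card_sigma]
    refine Nat.card_le_card_of_injective (fun t => ⟨(t.2.1.1, t.2.1.1 * t.2.1.2), ?_, ?_⟩) ?_
    · exact isConj_iff.2 ⟨_, rfl⟩
    · obtain ⟨y, ⟨g, x⟩, h⟩ := t
      dsimp only at h ⊢
      refine Finset.mem_filter.2 ⟨Finset.mem_univ _, isConj_iff.2 ⟨_, rfl⟩, isConj_iff.2 ⟨_, rfl⟩, ?_⟩
      rw [show g * u * g⁻¹ * (g * x * u * (g * x)⁻¹) = g * (u * (x * u * x⁻¹)) * g⁻¹ by group, h,
        inv_mul_cancel_left]
      exact y.2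
    · rintro ⟨y₁, ⟨g₁, x₁⟩, h₁⟩ ⟨y₂, ⟨g₂, x₂⟩, h₂⟩ e
      have e1 := congrArg (fun p => p.val.1) e
      have e2 := congrArg (fun p => p.val.2) e
      dsimp only at e1 e2
      subst e1
      have e3 := mul_left_cancel e2
      subst e3
      obtain rfl : y₁ = y₂ := Subtype.ext (mul_left_cancel (h₁.symm.trans h₂))
      rfl
  have hR : ∑ y : O u, ∑ χ : IrrCharacter G, χ.1 u * χ.1 u * conj (χ.1 (u * y)) / χ.1 1 =
      ((k : ℝ) * R : ℝ) := by
    rw [Finset.sum_comm, ← Finset.sum_subset (Finset.subset_univ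
      (Finset.univ.filter fun χ : IrrCharacter G => χ ∈ principalBlock M G))]
    · simp only [R, Finset.mul_sum, Complex.ofReal_sum]
      refine Finset.sum_congr rfl fun χ hχ => ?_
      rw [Finset.sum_congr rfl fun (y : O u) _ =>
        show χ.1 u * χ.1 u * conj (χ.1 (u * y)) / χ.1 1 = ((d χ : ℂ) ^ 3 / charDegree χ.1) by
          rw [S.apply_mul hM hu hu1 (Finset.mem_filter.1 hχ).2 y.2, hd, map_intCast,
            ← Char.charDegree_cast]
          ring, Finset.sum_const, Finset.card_univ, nsmul_eq_mul, ← Nat.card_eq_fintype_card]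
      push_cast
      rfl
    · intro χ _ hχ
      rw [Finset.sum_congr rfl fun (y : O u) _ =>
        show χ.1 u * χ.1 u * conj (χ.1 (u * y)) / χ.1 1 =
          (χ.1 u * χ.1 u / χ.1 1) * conj (χ.1 (u * y)) by ring, ← Finset.mul_sum, ← map_sum,
        S.sum_eq_zero hM hu hu1 (fun h => hχ (Finset.mem_filter.2 ⟨Finset.mem_univ _, h⟩)),
        map_zero, mul_zero]
  rw [Finset.sum_congr rfl fun (y : O u) _ => hterm y, ← Finset.sum_div, ← Nat.cast_sum,
    div_eq_iff (Nat.cast_ne_zero.2 Nat.card_pos.ne')] at hR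
  have hR' : ((∑ y : O u, Nat.card {p : G × G // p.1 * (u * (p.2 * u * p.2⁻¹)) * p.1⁻¹ = u * y} : ℕ) : ℝ) =
      (k : ℝ) * R * Nat.card G := by
    refine Complex.ofReal_injective ?_
    push_cast
    rw [← Nat.cast_sum, hR]
    push_cast
    ring
  have hk : (0 : ℝ) < k := Nat.cast_pos.2 Nat.card_pos
  refine le_of_mul_le_mul_left ?_ hk
  rw [← mul_assoc, ← hR', ← Nat.cast_mul, Nat.cast_le]
  refine le_trans hsum (le_trans hS₁ ?_)
  rw [S.card_C hu hu1]
  calc (pairs u).card * (q * k * (q * k)) = q ^ 2 * k * ((pairs u).card * k) := by ring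
    _ ≤ q ^ 2 * k * ((q - 2) * Nat.card (W P)) :=
        Nat.mul_le_mul_left _ (S.card_pairs_mul_le hT hu hu1)
    _ = k * (q ^ 2 * (q - 2) * Nat.card (W P)) := by ring

end Setup

end Cfsg.Agent.InvolRankOne
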