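import Cfsg.Agent.Lib.InvolRankOne.Structure
import Cfsg.Agent.Lib.Blocks.PConstrained
import Cfsg.Agent.Lib.Char.Ito
import Cfsg.Agent.Lib.Char.Product
import Cfsg.Agent.Lib.GL2Char.Even
import Cfsg.Agent.Lib.PSL2.SylowTwoNormalizer
import Cfsg.Agent.S2331

/-!
# The number of characters in the principal block

At most `|P|` characters, as their nonzero integer values at an involution have square sum `|P|`.
For a normal self-centralizing `P` the degrees divide the index, and for `PSL(2, |P|)` all but one
degree is odd.
-/

set_option autoImplicit false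
set_option linter.style.haveILetI false
set_option linter.unusedSectionVars false

namespace Cfsg.Agent.InvolRankOne

open Cfsg Subgroup
open scoped ComplexConjugate Classical

universe u

variable {G : Type u} [Group G] [Fintype G]

namespace Setup

variable {P : Sylow 2 G} (S : Setup P) {M : Ideal AlgInt} [Fact (Nat.Prime 2)] [M.IsMaximal]
include S

theorem card_principal_le (hM : IsPModular 2 M) :
    Nat.card (principalBlock M G) ≤ Nat.card (P : Subgroup G) := by
  obtain ⟨u, hu, hu1⟩ := S.exists_mem_ne_one
  choose d hd using fun χ : IrrCharacter G => S.exists_int hu χ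
  have h := S.sum_sq hM hu hu1
  rw [Finset.sum_congr rfl (g := fun χ => ((d χ * d χ : ℤ) : ℂ)) fun χ _ => by
    rw [hd χ, map_intCast, Int.cast_mul], ← Int.cast_sum] at h
  have h' : ∑ χ ∈ Finset.univ.filter (fun χ : IrrCharacter G => χ ∈ principalBlock M G), d χ * d χ =
      (Nat.card (P : Subgroup G) : ℤ) := by exact_mod_cast h
  have hle := Finset.card_nsmul_le_sum
    (Finset.univ.filter fun χ : IrrCharacter G => χ ∈ principalBlock M G) (fun χ => d χ * d χ) 1
    fun χ hχ => by
      have : d χ ≠ 0 := fun e => S.apply_ne_zero hM hu (Finset.mem_filter.1 hχ).2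
        (by rw [hd χ, e, Int.cast_zero])
      exact Int.add_one_le_iff.2 (mul_self_pos.2 this)
  rw [h', nsmul_eq_mul, mul_one, ← Fintype.card_subtype, ← Nat.card_eq_fintype_card,
    Nat.cast_le] at hle
  exact hle

/-- The count for a normal self-centralizing `P`. -/
theorem card_of_normal (hM : IsPModular 2 M) (hn : (P : Subgroup G).Normal)
    (hC : centralizer ((P : Subgroup G) : Set G) = (P : Subgroup G)) {e : ℕ}
    (he : (P : Subgroup G).index = e) :
    (Nat.card (P : Subgroup G) = 16 → e = 5 → Nat.card (principalBlock M G) = 8) ∧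
    (Nat.card (P : Subgroup G) = 8 → e = 7 → Nat.card (principalBlock M G) = 8) ∧
    (Transitive P → Nat.card (P : Subgroup G) = 16 → e = 15 →
      Nat.card (principalBlock M G) = 16) := by
  haveI := hn
  have hall : ∀ χ : IrrCharacter G, χ ∈ principalBlock M G := fun χ =>
    BlockCount.mem_principalBlock_of_centralizer_le hM P.2 hC.le χ
  have hk : Nat.card (principalBlock M G) = Nat.card (IrrCharacter G) :=
    Nat.card_congr (Equiv.subtypeUnivEquiv hall)
  have hle := S.card_principal_le hM
  rw [hk] at hle ⊢
  have hdvd : ∀ χ : IrrCharacter G, Char.degree χ ∣ e := fun χ =>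
    he ▸ Char.degree_dvd_index_of_comm (P : Subgroup G) (fun a ha b hb => S.comm ha hb) χ
  have hcard := (P : Subgroup G).card_mul_index
  rw [he] at hcard
  have hsum := Char.sum_degree_sq (G := G)
  rw [← hcard] at hsum
  rw [Nat.card_eq_fintype_card (α := IrrCharacter G)] at hle ⊢
  refine ⟨fun hq h5 => ?_, fun hq h7 => ?_, fun hT hq h15 => ?_⟩
  · subst h5
    have hv : ∀ χ : IrrCharacter G, Char.degree χ = 1 ∨ Char.degree χ = 5 := fun χ =>
      (Nat.dvd_prime (by norm_num)).1 (hdvd χ)
    set a := (Finset.univ.filter fun χ : IrrCharacter G => Char.degree χ = 1).card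
    set b := (Finset.univ.filter fun χ : IrrCharacter G => Char.degree χ = 5).card
    have h1 : Fintype.card (IrrCharacter G) = a + b := by
      rw [← Finset.card_univ, Finset.card_eq_sum_ones]
      simp only [a, b, Finset.card_filter, ← Finset.sum_add_distrib]
      exact Finset.sum_congr rfl fun χ _ => by rcases hv χ with h | h <;> simp [h]
    have h2 : ∑ χ : IrrCharacter G, Char.degree χ ^ 2 = a + 25 * b := by
      simp only [a, b, Finset.card_filter, Finset.mul_sum, ← Finset.sum_add_distrib]
      exact Finset.sum_congr rfl fun χ _ => by rcases hv χ with h | h <;> simp [h]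
    rw [h2, hq] at hsum
    rw [h1, hq] at hle
    rw [h1]
    omega
  · subst h7
    have hv : ∀ χ : IrrCharacter G, Char.degree χ = 1 ∨ Char.degree χ = 7 := fun χ =>
      (Nat.dvd_prime (by norm_num)).1 (hdvd χ)
    set a := (Finset.univ.filter fun χ : IrrCharacter G => Char.degree χ = 1).card
    set b := (Finset.univ.filter fun χ : IrrCharacter G => Char.degree χ = 7).card
    have h1 : Fintype.card (IrrCharacter G) = a + b := by
      rw [← Finset.card_univ, Finset.card_eq_sum_ones]
      simp only [a, b, Finset.card_filter, ← Finset.sum_add_distrib]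
      exact Finset.sum_congr rfl fun χ _ => by rcases hv χ with h | h <;> simp [h]
    have h2 : ∑ χ : IrrCharacter G, Char.degree χ ^ 2 = a + 49 * b := by
      simp only [a, b, Finset.card_filter, Finset.mul_sum, ← Finset.sum_add_distrib]
      exact Finset.sum_congr rfl fun χ _ => by rcases hv χ with h | h <;> simp [h]
    rw [h2, hq] at hsum
    rw [h1, hq] at hle
    rw [h1]
    omega
  · subst h15
    have hv : ∀ χ : IrrCharacter G,
        Char.degree χ = 1 ∨ Char.degree χ = 3 ∨ Char.degree χ = 5 ∨ Char.degree χ = 15 := fun χ => by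
      have := Nat.mem_divisors.2 ⟨hdvd χ, by norm_num⟩
      rw [show Nat.divisors 15 = {1, 3, 5, 15} by decide] at this
      simpa using this
    set a := (Finset.univ.filter fun χ : IrrCharacter G => Char.degree χ = 1).card
    set b := (Finset.univ.filter fun χ : IrrCharacter G => Char.degree χ = 3).card
    set c := (Finset.univ.filter fun χ : IrrCharacter G => Char.degree χ = 5).card
    set s := (Finset.univ.filter fun χ : IrrCharacter G => Char.degree χ = 15).card
    have h1 : Fintype.card (IrrCharacter G) = a + b + c + s := by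
      rw [← Finset.card_univ, Finset.card_eq_sum_ones]
      simp only [a, b, c, s, Finset.card_filter, ← Finset.sum_add_distrib]
      exact Finset.sum_congr rfl fun χ _ => by rcases hv χ with h | h | h | h <;> simp [h]
    have h2 : ∑ χ : IrrCharacter G, Char.degree χ ^ 2 = a + 9 * b + 25 * c + 225 * s := by
      simp only [a, b, c, s, Finset.card_filter, Finset.mul_sum, ← Finset.sum_add_distrib]
      exact Finset.sum_congr rfl fun χ _ => by rcases hv χ with h | h | h | h <;> simp [h]
    rw [h2, hq] at hsum
    rw [h1, hq] at hle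
    rw [h1]
    -- the number of linear characters divides `15`
    have hPG : (P : Subgroup G) ≤ commutator G := fun x hx => by
      by_cases hx1 : x = 1
      · subst hx1; exact one_mem _
      obtain ⟨y, hy, hy1, hyx⟩ : ∃ y ∈ (P : Subgroup G), y ≠ 1 ∧ y ≠ x := by
        by_contra hno
        push Not at hno
        have hsub : (Finset.univ.filter fun t : G => t ∈ (P : Subgroup G)) ⊆ {1, x} := fun t ht => by
          have htP := (Finset.mem_filter.1 ht).2
          by_cases ht1 : t = 1
          · simp [ht1]
          · simp [hno t htP ht1]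
        have hc := (Finset.card_le_card hsub).trans Finset.card_le_two
        rw [← Fintype.card_subtype, ← Nat.card_eq_fintype_card] at hc
        have := S.big
        omega
      have hxy : x * y ≠ 1 := fun h => hyx (by
        rw [← inv_eq_of_mul_eq_one_right h, S.inv_eq hx])
      obtain ⟨n, -, hn'⟩ := hT y hy hy1 (x * y) (mul_mem hx hy) hxy
      have hcm : n * y * n⁻¹ * y⁻¹ ∈ commutator G := by
        rw [← commutatorElement_def, _root_.commutator_def]
        exact Subgroup.commutator_mem_commutator (mem_top _) (mem_top _)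
      rwa [hn', mul_inv_cancel_right] at hcm
    have ha : a ∣ 15 := by
      have : a = (commutator G).index := by
        rw [← Char.card_linear, Nat.card_eq_fintype_card, Fintype.card_subtype]
        exact congrArg Finset.card (Finset.filter_congr fun χ _ => by
          rw [Char.apply_one_eq_degree, Nat.cast_eq_one])
      rw [this, ← he]
      exact index_dvd_of_le hPG
    have hs : s ≤ 1 := by omega
    have hb : b ≤ 16 := by omega
    have hc : c ≤ 16 := by omega
    have ha' : a = 1 ∨ a = 3 ∨ a = 5 ∨ a = 15 := by
      have := Nat.mem_divisors.2 ⟨ha, by norm_num⟩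
      rw [show Nat.divisors 15 = {1, 3, 5, 15} by decide] at this
      simpa using this
    interval_cases s <;> omega

/-- The count for `PSL(2, |P|)`. -/
theorem card_of_psl (hM : IsPModular 2 M) {F : Type} [Field F] [Fintype F]
    (hcard : Fintype.card F = Nat.card (P : Subgroup G))
    (e : G ≃* Matrix.ProjectiveSpecialLinearGroup (Fin 2) F)
    (hC : ∀ a ∈ (P : Subgroup G), a ≠ 1 → O a = ⊥) :
    Nat.card (principalBlock M G) = Nat.card (P : Subgroup G) := by
  obtain ⟨k, hk⟩ := IsPGroup.iff_card.1 P.2
  have hk0 : k ≠ 0 := fun h => by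
    have := S.big
    rw [hk, h, pow_zero] at this
    omega
  haveI : CharP F 2 := by
    obtain ⟨p, hp⟩ := CharP.exists F
    haveI := hp
    obtain ⟨n, hpp, hn⟩ := FiniteField.card F p
    have h2 : (2 : ℕ) ∣ p ^ (n : ℕ) := hn ▸ hcard ▸ hk ▸ dvd_pow_self 2 hk0
    have : 2 = p := (Nat.prime_dvd_prime_iff_eq Nat.prime_two hpp).1 (Nat.prime_two.dvd_of_dvd_pow h2)
    exact this ▸ hp
  have h4 : 4 ≤ Fintype.card F := hcard ▸ le_trans (by norm_num) S.big
  have hbot : Subgroup.center (Matrix.SpecialLinearGroup (Fin 2) F) = ⊥ := by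
    refine eq_bot_iff.2 fun x hx => mem_bot.2 ?_
    rcases PSL2.mem_center_iff_pm.1 hx with h | h
    · exact h
    · rw [h]
      apply Matrix.SpecialLinearGroup.ext
      intro i j
      fin_cases i <;> fin_cases j <;> simp [CharTwo.neg_eq]
  let e' : G ≃* Matrix.SpecialLinearGroup (Fin 2) F :=
    e.trans ((QuotientGroup.quotientMulEquivOfEq hbot).trans QuotientGroup.quotientBot)
  obtain ⟨-, hst, -, -⟩ := GL2Char.card_degrees_SL h4
  set q := Fintype.card F
  have hirr : Nat.card (IrrCharacter G) = q + 1 := by
    rw [Nat.card_congr (Char.irrCongr e'), Char.card_irr, S2331.result]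
  have hq1 : Nat.card {χ : IrrCharacter G // χ.1 1 = (q : ℂ)} = 1 := by
    rw [← hst]
    exact Nat.card_congr ((Char.irrCongr e').subtypeEquiv fun χ => by simp [Char.irrCongr])
  -- odd degrees lie in the principal block
  have hodd : ∀ χ : IrrCharacter G, χ.1 1 ≠ (q : ℂ) → χ ∈ principalBlock M G := by
    intro χ hχ
    by_contra hB
    obtain ⟨r, hr⟩ := S.exists_mult χ
    have h0 : ∀ x : (P : Subgroup G), x ≠ 1 → χ.1 x = 0 := fun x hx => by
      have hx1 : (x : G) ≠ 1 := fun h => hx (Subtype.ext h)
      have h := S.sum_eq_zero hM x.2 hx1 hB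
      haveI : Subsingleton (O (x : G)) := by rw [hC x x.2 hx1]; infer_instance
      rw [Fintype.sum_subsingleton _ (1 : O (x : G)), OneMemClass.coe_one, mul_one] at h
      exact h
    rw [Fintype.sum_eq_single 1 h0, OneMemClass.coe_one, Char.apply_one_eq_degree] at hr
    have hr' : Char.degree χ = Nat.card (P : Subgroup G) * r := by exact_mod_cast hr
    have hev : Even (Char.degree χ) := ⟨2 ^ (k - 1) * r, by
      rw [hr', hk, ← Nat.add_mul, ← two_mul, ← pow_succ', Nat.sub_add_cancel (Nat.pos_of_ne_zero hk0)]⟩
    have hqev : Even q := by rw [hcard, hk]; exact (Nat.even_pow).2 ⟨even_two, hk0⟩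
    have hdeg : ((Char.irrCongr e') χ).1 1 = χ.1 1 := by simp [Char.irrCongr]
    have hnot : ∀ {a : ℕ}, Char.degree χ = a → Odd a → False := fun h ho =>
      Nat.not_even_iff_odd.2 ho (h ▸ hev)
    rcases GL2Char.degree_mem_SL ((Char.irrCongr e') χ) with h | h | h | h <;> rw [hdeg] at h
    · rw [Char.apply_one_eq_degree] at h
      exact hnot (show Char.degree χ = 1 by exact_mod_cast h) odd_one
    · rw [Char.apply_one_eq_degree, show (q : ℂ) - 1 = ((q - 1 : ℕ) : ℂ) by
        rw [Nat.cast_sub (by omega), Nat.cast_one]] at h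
      exact hnot (Nat.cast_injective h) (by obtain ⟨m, hm⟩ := hqev; exact ⟨m - 1, by omega⟩)
    · exact hχ h
    · rw [Char.apply_one_eq_degree, ← Nat.cast_one (R := ℂ), ← Nat.cast_add] at h
      exact hnot (Nat.cast_injective h) hqev.add_one
  have hge : q ≤ Nat.card (principalBlock M G) := by
    have hcompl : Nat.card {χ : IrrCharacter G // ¬ χ.1 1 = (q : ℂ)} = q := by
      rw [Nat.card_eq_fintype_card, Fintype.card_subtype_compl, ← Nat.card_eq_fintype_card,
        ← Nat.card_eq_fintype_card, hirr, hq1]
      omega
    calc q = Nat.card {χ : IrrCharacter G // ¬ χ.1 1 = (q : ℂ)} := hcompl.symm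
      _ ≤ Nat.card (principalBlock M G) := Nat.card_le_card_of_injective
          (fun χ => (⟨χ.1, hodd χ.1 χ.2⟩ : principalBlock M G))
          fun χ ψ h => Subtype.ext (congrArg Subtype.val h :)
  exact le_antisymm (S.card_principal_le hM) (hcard ▸ hge)

end Setup

end Cfsg.Agent.InvolRankOne
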