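import Cfsg.Agent.Lib.InvolRankOne.Core
import Cfsg.Agent.Lib.FreeInertia.Main
import Cfsg.Agent.Lib.BrauerPairs.Bridge

/-!
# A commutative Sylow 2-subgroup of order at most 16 with free automizer

The principal block has `|P|` characters, or 8 if `|P| = 16`.
-/

set_option autoImplicit false
set_option linter.style.haveILetI false
set_option linter.unusedSectionVars false

namespace Cfsg.Agent.InvolRankOne

open Cfsg Subgroup
open scoped ComplexConjugate Classical Cfsg.Agent.Blocks

universe u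

variable {G : Type u} [Group G] [Fintype G] {P : Sylow 2 G}

/-- The principal pair on a Sylow subgroup is maximal, with stabilizer the normalizer. -/
theorem principal_isMax {p : ℕ} [Fact p.Prime] {M : Ideal AlgInt} [M.IsMaximal]
    [CharP (AlgInt ⧸ M) p] (P : Sylow p G) :
    BrauerPairs.IsMax p (BrauerPairs.blkG M (principalBlock M G)) ((P : Subgroup G),
        BrauerPairs.blk M (centralizer ((P : Subgroup G) : Set G))
          (principalBlock M (centralizer ((P : Subgroup G) : Set G)))) ∧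
    BrauerPairs.stabOf (P : Subgroup G) (BrauerPairs.blk M (centralizer ((P : Subgroup G) : Set G))
        (principalBlock M (centralizer ((P : Subgroup G) : Set G)))) =
      normalizer ((P : Subgroup G) : Set G) := by
  have he := BrauerPairs.isPrincipal_blk (M := M) (centralizer ((P : Subgroup G) : Set G))
  refine ⟨BrauerPairs.isMax_of_sylow (BrauerPairs.isPairOf_of_isPrincipal
    (BrauerPairs.isPrincipal_blkG (M := M)) P.isPGroup' he) P rfl, le_antisymm (fun g hg => hg.1)
    fun g hg => ⟨hg, ?_⟩⟩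
  have h1 := he.conj g
  rw [BrauerPairs.map_conj_eq_of_mem_normalizer
    (BrauerPairs.normalizer_le_normalizer_centralizer (P : Subgroup G) hg)] at h1
  exact h1.eq he

/-- An invariant set of nontrivial elements of `P` has size divisible by the automizer. -/
theorem dvd_card_invariant (hab : ∀ a ∈ (P : Subgroup G), ∀ b ∈ (P : Subgroup G), a * b = b * a)
    (hfree : ∀ g ∈ normalizer ((P : Subgroup G) : Set G), ∀ x ∈ (P : Subgroup G), x ≠ 1 →
      g * x = x * g → g ∈ centralizer ((P : Subgroup G) : Set G))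
    (T : Finset G) (hTP : ∀ t ∈ T, t ∈ (P : Subgroup G) ∧ t ≠ 1)
    (hinv : ∀ n ∈ normalizer ((P : Subgroup G) : Set G), ∀ t ∈ T, n * t * n⁻¹ ∈ T) :
    (centralizer ((P : Subgroup G) : Set G)).relIndex
      (normalizer ((P : Subgroup G) : Set G)) ∣ T.card := by
  set N := normalizer ((P : Subgroup G) : Set G)
  set C := (centralizer ((P : Subgroup G) : Set G)).subgroupOf N
  let orb : G → Finset G := fun a => (Finset.univ : Finset N).image fun n : N => (n : G) * a * (n : G)⁻¹
  have horb : ∀ a ∈ (P : Subgroup G), a ≠ 1 → (orb a).card = C.index := by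
    intro a ha ha1
    rw [index_eq_card, ← Fintype.card_coe, ← Nat.card_eq_fintype_card]
    refine (Nat.card_congr (Equiv.ofBijective
      (fun q : N ⧸ C => (⟨(q.out : G) * a * (q.out : G)⁻¹,
        Finset.mem_image.2 ⟨q.out, Finset.mem_univ _, rfl⟩⟩ : orb a)) ⟨?_, ?_⟩)).symm
    · intro q r h
      have h' := congrArg Subtype.val h
      simp only at h'
      rw [← Quotient.out_eq q, ← Quotient.out_eq r]
      refine QuotientGroup.eq.2 (mem_subgroupOf.2 (hfree _ (q.out⁻¹ * r.out).2 a ha ha1 ?_))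
      push_cast
      have := congrArg (fun t => (q.out : G)⁻¹ * t * (r.out : G)) h'
      simpa [mul_assoc] using this.symm
    · rintro ⟨t, ht⟩
      obtain ⟨n, -, rfl⟩ := Finset.mem_image.1 ht
      refine ⟨(n : N ⧸ C), Subtype.ext ?_⟩
      obtain ⟨c, hc⟩ := QuotientGroup.mk_out_eq_mul C n
      show ((n : N ⧸ C).out : G) * a * ((n : N ⧸ C).out : G)⁻¹ = (n : G) * a * (n : G)⁻¹
      rw [hc]
      have hca := mem_centralizer_iff.1 (mem_subgroupOf.1 c.2) a ha
      push_cast
      calc (n : G) * ((c : N) : G) * a * ((n : G) * ((c : N) : G))⁻¹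
          = (n : G) * (((c : N) : G) * a) * ((c : N) : G)⁻¹ * (n : G)⁻¹ := by group
        _ = (n : G) * a * (n : G)⁻¹ := by rw [← hca]; group
  induction T using Finset.strongInduction with
  | _ T ih =>
    rcases T.eq_empty_or_nonempty with rfl | ⟨a, haT⟩
    · simp
    obtain ⟨haP, ha1⟩ := hTP a haT
    have hsub : orb a ⊆ T := by
      intro t ht
      obtain ⟨n, -, rfl⟩ := Finset.mem_image.1 ht
      exact hinv n n.2 a haT
    rw [← Finset.card_sdiff_add_card_eq_card hsub]
    refine dvd_add (ih _ (Finset.sdiff_ssubset hsub ⟨a, Finset.mem_image.2 ⟨1, Finset.mem_univ _, by simp⟩⟩)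
      (fun t ht => hTP t (Finset.mem_sdiff.1 ht).1) fun n hn t ht => ?_) (by rw [horb a haP ha1]; rfl)
    obtain ⟨ht1, ht2⟩ := Finset.mem_sdiff.1 ht
    refine Finset.mem_sdiff.2 ⟨hinv n hn t ht1, fun hc => ht2 ?_⟩
    obtain ⟨m, -, hm⟩ := Finset.mem_image.1 hc
    refine Finset.mem_image.2 ⟨⟨n, hn⟩⁻¹ * m, Finset.mem_univ _, ?_⟩
    push_cast
    rw [show n⁻¹ * (m : G) * a * (n⁻¹ * (m : G))⁻¹ = n⁻¹ * ((m : G) * a * (m : G)⁻¹) * n by group, hm]
    group

variable {M : Ideal AlgInt} [Fact (Nat.Prime 2)] [M.IsMaximal]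

/-- The principal block for a free automizer. -/
theorem card_of_free (hM : IsPModular 2 M)
    (hab : ∀ a ∈ (P : Subgroup G), ∀ b ∈ (P : Subgroup G), a * b = b * a)
    (hfree : ∀ g ∈ normalizer ((P : Subgroup G) : Set G), ∀ x ∈ (P : Subgroup G), x ≠ 1 →
      g * x = x * g → g ∈ centralizer ((P : Subgroup G) : Set G))
    (hq : Nat.card (P : Subgroup G) = 2 ∨ Nat.card (P : Subgroup G) = 4 ∨
      Nat.card (P : Subgroup G) = 8 ∨ Nat.card (P : Subgroup G) = 16) :
    Nat.card (principalBlock M G) = Nat.card (P : Subgroup G) ∨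
      (Nat.card (P : Subgroup G) = 16 ∧ Nat.card (principalBlock M G) = 8) := by
  haveI : CharP (AlgInt ⧸ M) 2 := Blocks.charP_residue hM.2.2
  obtain ⟨hmax, hstab⟩ := principal_isMax (M := M) P
  have hP1 : (P : Subgroup G) ≠ ⊥ := fun h => by rw [h, card_bot] at hq; omega
  have s : FreeInertia.Setup 2 (principalBlock M G) (P : Subgroup G)
      (BrauerPairs.blk M (centralizer ((P : Subgroup G) : Set G))
        (principalBlock M (centralizer ((P : Subgroup G) : Set G)))) :=
    ⟨hM, BrauerPairs.isPBlock_principalBlock, hmax,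
      fun x hx => mem_centralizer_iff.2 fun y hy => hab y hy x hx,
      fun g hg x hx hx1 h => hfree g (hstab ▸ hg) x hx hx1 (mul_inv_eq_iff_eq_mul.1 h)⟩
  obtain ⟨r, hr, hk, hle, h3⟩ := s.counts hP1
  rw [FreeInertia.card_autE, hstab] at hr hle h3
  set e := (centralizer ((P : Subgroup G) : Set G)).relIndex
    (normalizer ((P : Subgroup G) : Set G)) with hedef
  have hr0 : r ≠ 0 := fun h => by rw [h, mul_zero] at hr; omega
  have hrle : r ≤ 15 ∨ 15 < r := le_or_gt r 15
  by_cases he3 : e ≤ 3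
  · have hl := h3 he3
    rw [hk, hl]
    rcases hq with h | h | h | h <;> rw [h] at hr ⊢ <;> interval_cases e <;> omega
  -- a larger automizer needs `P` elementary abelian
  have hcases : Nat.card (P : Subgroup G) = 8 ∧ e = 7 ∨ Nat.card (P : Subgroup G) = 16 ∧ e = 5 ∨
      Nat.card (P : Subgroup G) = 16 ∧ e = 15 := by
    have hdvd : e ∣ Nat.card (P : Subgroup G) - 1 := ⟨r, by omega⟩
    have hle' := Nat.le_of_dvd (by omega) hdvd
    rcases hq with h | h | h | h <;> rw [h] at hdvd hle' ⊢ <;> interval_cases e <;> omega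
  set T := Finset.univ.filter fun t : G => t ∈ (P : Subgroup G) ∧ t ≠ 1 ∧ t * t = 1
  have hT : e ∣ T.card := dvd_card_invariant hab hfree T
    (fun t ht => ⟨(Finset.mem_filter.1 ht).2.1, (Finset.mem_filter.1 ht).2.2.1⟩) fun n hn t ht => by
      obtain ⟨htP, ht1, ht2⟩ := (Finset.mem_filter.1 ht).2
      refine Finset.mem_filter.2 ⟨Finset.mem_univ _, (mem_normalizer_iff.1 hn t).1 htP,
        fun h => ht1 (conj_eq_one_iff.1 h), ?_⟩
      rw [show n * t * n⁻¹ * (n * t * n⁻¹) = n * (t * t) * n⁻¹ by group, ht2]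
      group
  let Ω : Subgroup G :=
    { carrier := {t | t ∈ (P : Subgroup G) ∧ t * t = 1}
      one_mem' := ⟨one_mem _, one_mul 1⟩
      mul_mem' := fun {a b} ha hb => ⟨mul_mem ha.1 hb.1, by
        rw [show a * b * (a * b) = a * (b * a) * b by group, hab b hb.1 a ha.1,
          show a * (a * b) * b = (a * a) * (b * b) by group, ha.2, hb.2, one_mul]⟩
      inv_mem' := fun {a} ha => ⟨inv_mem ha.1, by rw [← mul_inv_rev, ha.2, inv_one]⟩ }
  have hΩcard : Nat.card Ω = T.card + 1 := by
    rw [show T = (Finset.univ.filter fun t : G => t ∈ Ω).erase 1 by ext t; simp [T, Ω]; tauto,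
      Finset.card_erase_add_one (by simp), ← Fintype.card_subtype, ← Nat.card_eq_fintype_card]
  have hΩle : Ω ≤ (P : Subgroup G) := fun t ht => ht.1
  have hΩ1 : 2 ≤ Nat.card Ω := by
    have h2 : 2 ∣ Nat.card (P : Subgroup G) := by rcases hq with h | h | h | h <;> rw [h] <;> norm_num
    obtain ⟨⟨t, htP⟩, ht⟩ := exists_prime_orderOf_dvd_card' 2 h2
    rw [Subgroup.orderOf_mk] at ht
    rw [hΩcard]
    have : t ∈ T := Finset.mem_filter.2 ⟨Finset.mem_univ _, htP, fun h => by
      rw [h, orderOf_one] at ht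
      exact absurd ht (by norm_num), by rw [← pow_two, ← ht, pow_orderOf_eq_one]⟩
    have := Finset.card_pos.2 ⟨t, this⟩
    omega
  have hΩeq : Ω = (P : Subgroup G) := by
    refine Subgroup.eq_of_le_of_card_ge hΩle ?_
    obtain ⟨k, hkP⟩ := IsPGroup.iff_card.1 P.2
    obtain ⟨j, hj, hjΩ⟩ := (Nat.dvd_prime_pow Nat.prime_two).1 (hkP ▸ card_dvd_of_le hΩle)
    have hk4 : k ≤ 4 := by
      by_contra hcon
      have := Nat.pow_le_pow_right two_pos (show 5 ≤ k by omega)
      rw [← hkP] at this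
      omega
    obtain ⟨m, hm⟩ := hT
    rw [hΩcard] at hjΩ hΩ1
    rw [hm] at hjΩ hΩ1
    rcases hcases with ⟨h, he⟩ | ⟨h, he⟩ | ⟨h, he⟩ <;> rw [he] at hjΩ hΩ1 hm <;>
      rw [h] at hkP ⊢ <;> rw [hΩcard, hm] <;> interval_cases k <;> interval_cases j <;> omega
  have S : Setup P := ⟨fun x hx => ((hΩeq.ge hx : x ∈ Ω)).2, by omega, hfree⟩
  obtain ⟨c5, c7, c15⟩ := S.card_principal hM (e := e) rfl
  rcases hcases with ⟨h, he⟩ | ⟨h, he⟩ | ⟨h, he⟩
  · exact Or.inl ((c7 h he).trans h.symm)
  · exact Or.inr ⟨h, c5 h he⟩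
  · exact Or.inl ((c15 h he).trans h.symm)

end Cfsg.Agent.InvolRankOne
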