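import Cfsg.Agent.Lib.InvolRankOne.Free
import Cfsg.Agent.S4569
import Cfsg.Agent.S4640
import Cfsg.Agent.S4646
import Cfsg.Agent.Lib.Transfer.Burnside
import Cfsg.Agent.Lib.BrauerPairs.PrincipalNilpotent

/-!
# An abelian Sylow 2-subgroup and an involution with a 2-nilpotent centralizer

The automizer fixes this involution only trivially.  It is free, or it has nine elements on an
elementary abelian group of order 16, or it has prime order and transfer splits off its fixed group.
-/

set_option autoImplicit false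
set_option linter.style.haveILetI false
set_option linter.unusedSectionVars false

namespace Cfsg.Agent.InvolRankOne

open Cfsg Subgroup
open scoped ComplexConjugate Classical Cfsg.Agent.Blocks

universe u

variable {G : Type u} [Group G] [Fintype G] {P : Sylow 2 G} {M : Ideal AlgInt}
  [Fact (Nat.Prime 2)] [M.IsMaximal]

theorem stabilizer_le_centralizer (hab : ∀ a ∈ (P : Subgroup G), ∀ b ∈ (P : Subgroup G), a * b = b * a)
    {x : G} (hxP : x ∈ (P : Subgroup G))
    (hx : HasNormalPComplement 2 (centralizer ({x} : Set G))) {g : G}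
    (hg : g ∈ normalizer ((P : Subgroup G) : Set G)) (hgx : g * x = x * g) :
    g ∈ centralizer ((P : Subgroup G) : Set G) := by
  set C := centralizer ({x} : Set G)
  have hPC : (P : Subgroup G) ≤ C := fun t ht => mem_centralizer_singleton_iff.2 (hab t ht x hxP)
  obtain ⟨Q, K, hK, hc⟩ := hx
  have hQab : ∀ a b : (Q : Subgroup C), (a : C) * b = b * a := by
    obtain ⟨h, hh⟩ := MulAction.exists_smul_eq C Q (P.subtype hPC)
    intro a b
    have hm : ∀ a : (Q : Subgroup C), ((h * a * h⁻¹ : C) : G) ∈ (P : Subgroup G) := fun a => by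
      have h1 : (MulAut.conj h) (a : C) ∈ ((h • Q : Sylow 2 C) : Subgroup C) := ⟨a, a.2, rfl⟩
      rw [hh] at h1
      exact h1
    have := hab _ (hm a) _ (hm b)
    have h2 : (h * a * h⁻¹ : C) * (h * b * h⁻¹) = (h * b * h⁻¹) * (h * a * h⁻¹) := Subtype.ext this
    rw [show h * (a : C) * h⁻¹ * (h * b * h⁻¹) = h * ((a : C) * b) * h⁻¹ by group,
      show h * (b : C) * h⁻¹ * (h * a * h⁻¹) = h * ((b : C) * a) * h⁻¹ by group] at h2
    exact mul_left_cancel (mul_right_cancel h2)
  have hquot : ∀ a b : C, a * b * a⁻¹ * b⁻¹ ∈ K := by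
    intro a b
    haveI := hK
    rw [← QuotientGroup.eq_one_iff]
    obtain ⟨⟨k, q⟩, rfl⟩ := hc.2 a
    obtain ⟨⟨k', q'⟩, rfl⟩ := hc.2 b
    simp only [QuotientGroup.mk_mul, QuotientGroup.mk_inv, (QuotientGroup.eq_one_iff _).2 k.2,
      (QuotientGroup.eq_one_iff _).2 k'.2, one_mul]
    rw [← QuotientGroup.mk_mul, hQab q q', QuotientGroup.mk_mul]
    group
  refine mem_centralizer_iff.2 fun t ht => ?_
  have hgC : g ∈ C := mem_centralizer_singleton_iff.2 hgx
  have hm : g * t * g⁻¹ * t⁻¹ ∈ (P : Subgroup G) := mul_mem ((mem_normalizer_iff.1 hg t).1 ht) (inv_mem ht)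
  have hk := hquot ⟨g, hgC⟩ ⟨t, hPC ht⟩
  set z : C := ⟨g, hgC⟩ * ⟨t, hPC ht⟩ * ⟨g, hgC⟩⁻¹ * ⟨t, hPC ht⟩⁻¹
  have hzP : z ∈ ((P.subtype hPC : Sylow 2 C) : Subgroup C) := hm
  obtain ⟨n, hn⟩ := (IsPGroup.iff_orderOf.1 (P.subtype hPC).2) ⟨z, hzP⟩
  rw [Subgroup.orderOf_mk] at hn
  have hKodd : Nat.Coprime (Nat.card K) 2 := by
    refine Nat.Coprime.symm ((Nat.Prime.coprime_iff_not_dvd Nat.prime_two).2 fun hd => ?_)
    have h1 := Q.not_dvd_index
    rw [hc.index_eq_card] at h1
    exact h1 hd
  have hz1 : z = 1 := orderOf_eq_one_iff.1 (Nat.eq_one_of_dvd_coprimes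
    (Nat.Coprime.pow_left n hKodd.symm) (dvd_of_eq hn) (Subgroup.orderOf_dvd_natCard K hk))
  have hz2 : g * t * g⁻¹ * t⁻¹ = 1 := congrArg Subtype.val hz1
  rw [mul_inv_eq_one, mul_inv_eq_iff_eq_mul] at hz2
  exact hz2.symm

/-- The principal block of `G` over a normal subgroup of 2-power index with abelian Sylow 2-subgroups. -/
theorem card_principal_of_index (hM : IsPModular 2 M)
    (hab : ∀ a ∈ (P : Subgroup G), ∀ b ∈ (P : Subgroup G), a * b = b * a)
    (K : Subgroup G) [K.Normal] [Fintype K] (hK : ∃ k, K.index = 2 ^ k) :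
    Nat.card (principalBlock M G) = K.index * Nat.card (principalBlock M K) := by
  haveI : CharP (AlgInt ⧸ M) 2 := Blocks.charP_residue hM.2.2
  obtain ⟨hmax, -⟩ := principal_isMax (M := M) P
  have hB := BrauerPairs.isPBlock_principalBlock (M := M) (G := G)
  have hb := BrauerPairs.isPBlock_principalBlock (M := M) (G := K)
  have hstab : ∀ g : G, StabilizesBlock K (principalBlock M K) g := fun g => by
    have hgN : g ∈ normalizer (K : Set G) := normalizer_eq_top_iff.2 ‹K.Normal› ▸ mem_top g
    rw [BrauerPairs.stabilizesBlock_iff hb hgN]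
    have h1 := (BrauerPairs.isPrincipal_blk (M := M) K).conj g
    rw [BrauerPairs.map_conj_eq_of_mem_normalizer hgN] at h1
    exact h1.eq (BrauerPairs.isPrincipal_blk (M := M) K)
  have hcov : ∃ χ ∈ principalBlock M G, ∃ θ ∈ principalBlock M K,
      classInner (fun n : K => (χ : G → ℂ) n) (θ : K → ℂ) ≠ 0 := by
    refine ⟨Char.trivialChar G, BrauerPairs.trivialChar_mem_principalBlock, Char.trivialChar K,
      BrauerPairs.trivialChar_mem_principalBlock, ?_⟩
    rw [show (fun n : K => (Char.trivialChar G : IrrCharacter G).1 n) = (Char.trivialChar K).1 from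
      funext fun n => by simp, Char.classInner_irr_self (Char.trivialChar K).2]
    exact one_ne_zero
  exact (S4640.result 2 M hM K hK _ hb hstab _ hB hcov (P : Subgroup G)
    (BrauerPairs.isDefectGroup_of_isMax hB hmax) hab).2.2.2.2.1

set_option maxHeartbeats 2000000 in
/-- The count of characters in the principal block. -/
theorem card_principal_cases (hM : IsPModular 2 M)
    (hab : ∀ a ∈ (P : Subgroup G), ∀ b ∈ (P : Subgroup G), a * b = b * a)
    {x : G} (hxP : x ∈ (P : Subgroup G)) (hx2 : orderOf x = 2)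
    (hx : HasNormalPComplement 2 (centralizer ({x} : Set G)))
    (hq : Nat.card (P : Subgroup G) = 8 ∨ Nat.card (P : Subgroup G) = 16) :
    Nat.card (principalBlock M G) = Nat.card (P : Subgroup G) ∨
      (Nat.card (P : Subgroup G) = 16 ∧ Nat.card (principalBlock M G) = 8) := by
  set N := normalizer ((P : Subgroup G) : Set G)
  set C := centralizer ((P : Subgroup G) : Set G)
  by_cases hfree : ∀ g ∈ N, ∀ y ∈ (P : Subgroup G), y ≠ 1 → g * y = y * g → g ∈ C
  · exact card_of_free hM hab hfree (by omega)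
  push Not at hfree
  obtain ⟨g, hgN, y, hyP, hy1, hgy, hgC⟩ := hfree
  set e := C.relIndex N with hedef
  -- the orbit of `x`
  set Cx := (C.subgroupOf N)
  let f : N ⧸ Cx → {t : G // t ∈ (P : Subgroup G) ∧ t ≠ 1 ∧ t * t = 1} := fun q =>
    ⟨(q.out : G) * x * (q.out : G)⁻¹, (mem_normalizer_iff.1 q.out.2 x).1 hxP, fun h => by
      rw [conj_eq_one_iff.1 h, orderOf_one] at hx2
      exact absurd hx2 (by norm_num), by
      rw [show (q.out : G) * x * (q.out : G)⁻¹ * ((q.out : G) * x * (q.out : G)⁻¹) =
        (q.out : G) * (x * x) * (q.out : G)⁻¹ by group, ← pow_two, ← hx2, pow_orderOf_eq_one]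
      group⟩
  have hfinj : Function.Injective f := by
    intro q r h
    have h' := congrArg Subtype.val h
    simp only [f] at h'
    rw [← Quotient.out_eq q, ← Quotient.out_eq r]
    refine QuotientGroup.eq.2 (mem_subgroupOf.2
      (stabilizer_le_centralizer hab hxP hx (q.out⁻¹ * r.out).2 ?_))
    push_cast
    have := congrArg (fun t => (q.out : G)⁻¹ * t * (r.out : G)) h'
    simpa [mul_assoc] using this.symm
  set T := Finset.univ.filter fun t : G => t ∈ (P : Subgroup G) ∧ t ≠ 1 ∧ t * t = 1
  have heT : e ≤ T.card := by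
    rw [hedef, relIndex, index_eq_card, ← Fintype.card_subtype, ← Nat.card_eq_fintype_card]
    exact Nat.card_le_card_of_injective f hfinj
  have hTsub : T ⊆ (Finset.univ.filter fun t : G => t ∈ (P : Subgroup G)).erase 1 := fun t ht => by
    simp only [T, Finset.mem_filter, Finset.mem_erase, Finset.mem_univ, true_and] at ht ⊢
    exact ⟨ht.2.1, ht.1⟩
  have hPcard : ((Finset.univ.filter fun t : G => t ∈ (P : Subgroup G)).erase 1).card =
      Nat.card (P : Subgroup G) - 1 := by
    rw [Finset.card_erase_of_mem (by simp), ← Fintype.card_subtype, ← Nat.card_eq_fintype_card]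
  have hTle : T.card ≤ Nat.card (P : Subgroup G) - 1 := hPcard ▸ Finset.card_le_card hTsub
  have hodd : ¬ 2 ∣ e := fun h => P.not_dvd_index (h.trans ((relIndex_dvd_of_le_left N
    (fun t ht => mem_centralizer_iff.2 fun s hs => hab s hs t ht)).trans
      (relIndex_dvd_index_of_le (le_normalizer))))
  have he1 : e ≠ 1 := fun h => hgC (relIndex_eq_one.1 h hgN)
  by_cases hprime : e.Prime
  swap
  · -- nine or fifteen
    have he : e = 9 ∨ e = 15 := by
      have he0 : e ≠ 0 := fun h => hodd (by rw [h]; exact dvd_zero 2)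
      have : e ≤ 15 := by omega
      interval_cases e <;> first | omega | (exfalso; norm_num at hprime) | (exfalso; norm_num at hodd)
    have h16 : Nat.card (P : Subgroup G) = 16 := by omega
    -- `T` is then all of `P`
    have hel : ∀ t ∈ (P : Subgroup G), t * t = 1 := by
      let Ω : Subgroup G :=
        { carrier := {t | t ∈ (P : Subgroup G) ∧ t * t = 1}
          one_mem' := ⟨one_mem _, one_mul 1⟩
          mul_mem' := fun {a b} ha hb => ⟨mul_mem ha.1 hb.1, by
            rw [show a * b * (a * b) = a * (b * a) * b by group, hab b hb.1 a ha.1,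
              show a * (a * b) * b = (a * a) * (b * b) by group, ha.2, hb.2, one_mul]⟩
          inv_mem' := fun {a} ha => ⟨inv_mem ha.1, by rw [← mul_inv_rev, ha.2, inv_one]⟩ }
      have hΩcard : Nat.card Ω = T.card + 1 := by
        rw [show T = (Finset.univ.filter fun t : G => t ∈ Ω).erase 1 by ext t; simp [T, Ω]; tauto,
          Finset.card_erase_add_one (by simp), ← Fintype.card_subtype, ← Nat.card_eq_fintype_card]
      have hΩle : Ω ≤ (P : Subgroup G) := fun t ht => ht.1
      have hd := card_dvd_of_le hΩle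
      have hΩeq : Ω = (P : Subgroup G) := by
        refine Subgroup.eq_of_le_of_card_ge hΩle ?_
        rw [h16] at hd ⊢
        rw [hΩcard] at hd ⊢
        obtain ⟨m, hm⟩ := hd
        have hm1 : m < 2 := by
          by_contra hcon
          have := Nat.mul_le_mul_left (T.card + 1) (not_lt.1 hcon)
          omega
        interval_cases m <;> omega
      exact fun t ht => ((hΩeq.ge ht : t ∈ Ω)).2
    rcases he with he | he
    · exact Or.inl ((S4569.result M hM P h16 (fun t => Subtype.ext (by
        rw [pow_two]; exact hel t t.2)) he).1.trans h16.symm)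
    · -- the orbit of `x` is everything
      exfalso
      have hsurj : ((Finset.univ : Finset (N ⧸ Cx)).image fun q => (f q).1) = T := by
        refine Finset.eq_of_subset_of_card_le (fun t ht => ?_) ?_
        · obtain ⟨q, -, rfl⟩ := Finset.mem_image.1 ht
          exact Finset.mem_filter.2 ⟨Finset.mem_univ _, (f q).2⟩
        · rw [Finset.card_image_of_injective _ (fun q r h => hfinj (Subtype.ext h)), Finset.card_univ,
            ← Nat.card_eq_fintype_card, ← index_eq_card]
          show T.card ≤ C.relIndex N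
          omega
      have hyT : y ∈ T := Finset.mem_filter.2 ⟨Finset.mem_univ _, hyP, hy1, hel y hyP⟩
      rw [← hsurj] at hyT
      obtain ⟨q, -, hq'⟩ := Finset.mem_image.1 hyT
      simp only [f] at hq'
      set n : G := ((q.out : N) : G)
      have hnN : n ∈ N := q.out.2
      have h1 : (n⁻¹ * g * n) * x = x * (n⁻¹ * g * n) := by
        have h := congrArg (fun t => n⁻¹ * t * n) hgy
        rw [← hq'] at h
        simpa [mul_assoc] using h
      have h2 := stabilizer_le_centralizer hab hxP hx (mul_mem (mul_mem (inv_mem hnN) hgN) hnN) h1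
      refine hgC (mem_centralizer_iff.2 fun t ht => ?_)
      have h3 := mem_centralizer_iff.1 h2 (n⁻¹ * t * n) ((mem_normalizer_iff''.1 hnN t).1 ht)
      have := congrArg (fun s => n * s * n⁻¹) h3
      simpa [mul_assoc] using this
  -- prime order: transfer
  set F := (P : Subgroup G) ⊓ centralizer (N : Set G) with hFdef
  have hgen : ∀ a : G, a ∈ N → a ∉ C → ∀ z ∈ (P : Subgroup G), a * z = z * a →
      z ∈ centralizer (N : Set G) := by
    intro a haN haC z hz haz
    haveI hCn : (C.subgroupOf N).Normal :=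
      normal_subgroupOf_of_le_normalizer (BrauerPairs.normalizer_le_normalizer_centralizer _)
    let S : Subgroup N := (centralizer ({z} : Set G)).subgroupOf N
    have hCS : C.subgroupOf N ≤ S := fun c hc =>
      mem_subgroupOf.2 (mem_centralizer_singleton_iff.2 (mem_centralizer_iff.1 hc z hz).symm)
    have hStop : S = ⊤ := by
      have h1 : S.index ∣ e := index_dvd_of_le hCS
      rcases (Nat.dvd_prime hprime).1 h1 with h | h
      · exact index_eq_one.1 h
      · exfalso
        refine haC ?_
        have : C.subgroupOf N = S := by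
          refine le_antisymm hCS ?_
          have h2 := relIndex_mul_index hCS
          rw [h, show (C.subgroupOf N).index = e from rfl] at h2
          exact relIndex_eq_one.1 (Nat.eq_of_mul_eq_mul_right hprime.pos (h2.trans (one_mul e).symm))
        exact mem_subgroupOf.1 (this.ge (show (⟨a, haN⟩ : N) ∈ S from
          mem_subgroupOf.2 (mem_centralizer_singleton_iff.2 haz)))
    refine mem_centralizer_iff.2 fun n hn => ?_
    have : (⟨n, hn⟩ : N) ∈ S := hStop ▸ mem_top _
    exact mem_centralizer_singleton_iff.1 (mem_subgroupOf.1 this)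
  have hyF : y ∈ F := ⟨hyP, hgen g hgN hgC y hyP hgy⟩
  have hcomm : IsMulCommutative (P : Subgroup G) := ⟨⟨fun a b => Subtype.ext (hab a a.2 b b.2)⟩⟩
  obtain ⟨φ, hφ⟩ := Transfer.exists_surjective_inf_centralizer_normalizer P hcomm
  set K := φ.ker
  haveI := Fintype.ofFinite K
  have hKidx : K.index = Nat.card F := by
    rw [index_ker, MonoidHom.range_eq_top_of_surjective φ hφ, card_top]
    rfl
  obtain ⟨k, hk⟩ := IsPGroup.iff_card.1 P.2
  have hFdvd : Nat.card F ∣ 2 ^ k := hk ▸ card_dvd_of_le inf_le_left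
  obtain ⟨j, -, hj⟩ := (Nat.dvd_prime_pow Nat.prime_two).1 hFdvd
  have hK2 : ∃ i, K.index = 2 ^ i := ⟨j, hKidx.trans hj⟩
  rw [card_principal_of_index hM hab K hK2]
  -- the intersection with `P` is a Sylow subgroup of `K`
  set R := (P : Subgroup G).subgroupOf K with hRdef
  have hFcomm : commutator G ≤ K := by
    rw [_root_.commutator_def, Subgroup.commutator_le]
    intro a _ b _
    refine MonoidHom.mem_ker.2 ?_
    rw [map_commutatorElement, commutatorElement_eq_one_iff_commute]
    exact Subtype.ext (hab _ (φ a).2.1 _ (φ b).2.1)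
  have hdec : ∀ t ∈ (P : Subgroup G), ∃ c ∈ F, c⁻¹ * t ∈ K := fun t ht => by
    obtain ⟨c, hc, hct⟩ := Transfer.exists_mem_centralizer_normalizer_mul_focal P hcomm ht
    exact ⟨c, hc, hFcomm ((P : Subgroup G).focalSubgroup_le_commutator hct)⟩
  have hsur : Function.Surjective fun c : F => φ (c : G) := by
    intro w
    obtain ⟨a', ha'⟩ := hφ w
    have hmap : (P : Subgroup G).map φ = ⊤ := by
      rw [← index_eq_one]
      refine Nat.eq_one_of_dvd_coprimes (a := 2 ^ j) ?_ ?_ ((P : Subgroup G).index_map_dvd hφ)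
      · exact ((Nat.Prime.coprime_iff_not_dvd Nat.prime_two).2 P.not_dvd_index).pow_left j
      · rw [← hj]; exact index_dvd_card _
    obtain ⟨s, hs, hsz⟩ : φ a' ∈ (P : Subgroup G).map φ := hmap ▸ mem_top _
    obtain ⟨c', hc', hct⟩ := hdec s hs
    refine ⟨⟨c', hc'⟩, ?_⟩
    show φ c' = w
    rw [← ha', ← hsz]
    rwa [MonoidHom.mem_ker, map_mul, map_inv, inv_mul_eq_one] at hct
  have hFK : ∀ t ∈ F, t ∈ K → t = 1 := by
    intro t htF htK
    have h := (Finite.injective_iff_surjective.2 hsur) (a₁ := ⟨t, htF⟩) (a₂ := 1) (by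
      show φ t = φ ((1 : F) : G)
      rw [OneMemClass.coe_one, map_one]
      exact MonoidHom.mem_ker.1 htK)
    exact congrArg Subtype.val h
  have hmulcard : Nat.card R * K.index = Nat.card (P : Subgroup G) := by
    have h1 := R.card_mul_index
    have h2 : Nat.card R = Nat.card ((P : Subgroup G) ⊓ K : Subgroup G) := by
      rw [hRdef, ← Nat.card_congr (subgroupOfEquivOfLe (inf_le_right : (P : Subgroup G) ⊓ K ≤ K)).toEquiv,
        inf_subgroupOf_right]
    have h3 : K.relIndex (P : Subgroup G) = K.index := by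
      rw [← relIndex_sup_right (H := (P : Subgroup G)) (K := K)]
      have : (P : Subgroup G) ⊔ K = ⊤ := by
        refine eq_top_iff.2 fun a _ => ?_
        obtain ⟨c, hc⟩ : ∃ c : G, c ∈ (P : Subgroup G) ∧ φ c = φ a := by
          obtain ⟨c, hc⟩ := hsur (φ a)
          exact ⟨c, c.2.1, hc⟩
        have : a = c * (c⁻¹ * a) := by group
        rw [this]
        refine mul_mem (mem_sup_left hc.1) (mem_sup_right ?_)
        rw [MonoidHom.mem_ker, map_mul, map_inv, hc.2, inv_mul_cancel]
      rw [this, relIndex_top_right]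
    rw [h2, ← h3, ← inf_relIndex_right, inf_comm K,
      ← Nat.card_congr (subgroupOfEquivOfLe (inf_le_left : (P : Subgroup G) ⊓ K ≤ P)).toEquiv]
    exact card_mul_index _
  have hRpg : IsPGroup 2 R := P.2.comap_of_injective K.subtype Subtype.val_injective
  have hRidx : ¬ 2 ∣ R.index := by
    have h1 : R.index * K.index = (P : Subgroup G).index * K.index := by
      have hmc := R.card_mul_index
      have hG := (P : Subgroup G).card_mul_index
      rw [← card_mul_index K, ← hmc, ← hmulcard] at hG
      have hpos : 0 < Nat.card R := Nat.card_pos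
      refine Nat.eq_of_mul_eq_mul_left hpos ?_
      linarith
    have hidx0 : 0 < K.index := by rw [hKidx]; exact Nat.card_pos
    rw [Nat.eq_of_mul_eq_mul_right hidx0 h1]
    exact P.not_dvd_index
  let RS : Sylow 2 K := hRpg.toSylow hRidx
  have hRS : (RS : Subgroup K) = R := rfl
  have hRab : ∀ a ∈ (RS : Subgroup K), ∀ b ∈ (RS : Subgroup K), a * b = b * a :=
    fun a ha b hb => Subtype.ext (hab _ (mem_subgroupOf.1 ha) _ (mem_subgroupOf.1 hb))
  have hF2 : 2 ≤ Nat.card F := by
    by_contra hcon
    have h1 : Nat.card F = 1 := by have := Nat.card_pos (α := F); omega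
    rw [card_eq_one] at h1
    rw [h1, mem_bot] at hyF
    exact hy1 hyF
  have hRne : Nat.card R ≠ 1 := fun h => by
    rw [h, one_mul, hKidx] at hmulcard
    have hFP : F = (P : Subgroup G) := Subgroup.eq_of_le_of_card_ge inf_le_left hmulcard.ge
    refine hgC (mem_centralizer_iff.2 fun t ht => ?_)
    exact (mem_centralizer_iff.1 (hFP.ge ht).2 g hgN).symm
  obtain ⟨i, hi⟩ := IsPGroup.iff_card.1 hRpg
  have hR : Nat.card R = 2 ∨ Nat.card R = 4 ∨ Nat.card R = 8 := by
    have hle : Nat.card R ≤ 8 := by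
      rw [hKidx] at hmulcard
      by_contra hcon
      have := Nat.mul_le_mul (not_le.1 hcon) hF2
      omega
    have hi3 : i ≤ 3 := by
      by_contra hcon
      have := Nat.pow_le_pow_right two_pos (show 4 ≤ i by omega)
      rw [← hi] at this
      omega
    rw [hi]
    have hi1 : i ≠ 0 := fun h => hRne (by rw [hi, h, pow_zero])
    interval_cases i <;> simp at hi1 ⊢
  -- the automizer of `R` in `K` is free
  have hfreeK : ∀ g ∈ normalizer ((RS : Subgroup K) : Set K), ∀ z ∈ (RS : Subgroup K), z ≠ 1 →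
      g * z = z * g → g ∈ centralizer ((RS : Subgroup K) : Set K) := by
    intro a ha z hz hz1 haz
    set Rg := (P : Subgroup G) ⊓ K
    have hPRg : (P : Subgroup G) ≤ centralizer (Rg : Set G) := fun t ht =>
      mem_centralizer_iff.2 fun s hs => hab s hs.1 t ht
    -- `a` normalizes `P ⊓ K`
    have hanorm : ∀ t ∈ Rg, (a : G) * t * (a : G)⁻¹ ∈ Rg := fun t ht =>
      mem_inf.2 ⟨mem_subgroupOf.1 ((mem_normalizer_iff.1 ha ⟨t, ht.2⟩).1 (mem_subgroupOf.2 ht.1)),
        mul_mem (mul_mem a.2 ht.2) (inv_mem a.2)⟩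
    have hanorm' : ∀ t ∈ Rg, (a : G)⁻¹ * t * (a : G) ∈ Rg := fun t ht =>
      mem_inf.2 ⟨mem_subgroupOf.1 ((mem_normalizer_iff''.1 ha ⟨t, ht.2⟩).1 (mem_subgroupOf.2 ht.1)),
        mul_mem (mul_mem (inv_mem a.2) ht.2) a.2⟩
    set CR := centralizer (Rg : Set G)
    have haP : (((a : G) • P : Sylow 2 G) : Subgroup G) ≤ CR := by
      rintro _ ⟨t, ht, rfl⟩
      refine mem_centralizer_iff.2 fun s hs => ?_
      have h := mem_centralizer_iff.1 (hPRg ht) _ (hanorm' s hs)
      show s * ((a : G) * t * (a : G)⁻¹) = (a : G) * t * (a : G)⁻¹ * s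
      calc s * ((a : G) * t * (a : G)⁻¹) = (a : G) * (((a : G)⁻¹ * s * a) * t) * (a : G)⁻¹ := by group
        _ = (a : G) * (t * ((a : G)⁻¹ * s * a)) * (a : G)⁻¹ := by rw [h]
        _ = (a : G) * t * (a : G)⁻¹ * s := by group
    obtain ⟨c, hc⟩ := MulAction.exists_smul_eq CR (P.subtype hPRg)
      (((a : G) • P : Sylow 2 G).subtype haP)
    rw [Sylow.smul_subtype] at hc
    have h1 : (c : G) • P = (a : G) • P := Sylow.subtype_injective hc
    have hnN : (c : G)⁻¹ * a ∈ N :=
      Sylow.smul_eq_iff_mem_normalizer.mp (by rw [mul_smul, ← h1, inv_smul_smul])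
    set n := (c : G)⁻¹ * (a : G)
    have hzR : (z : G) ∈ Rg := ⟨mem_subgroupOf.1 hz, z.2⟩
    have hcR : ∀ t ∈ Rg, (c : G)⁻¹ * t = t * (c : G)⁻¹ := fun t ht =>
      (mem_centralizer_iff.1 (inv_mem c.2) t ht).symm
    by_cases hnC : n ∈ C
    · refine mem_centralizer_iff.2 fun t ht => Subtype.ext ?_
      have htR : (t : G) ∈ Rg := ⟨mem_subgroupOf.1 ht, t.2⟩
      show (t : G) * (a : G) = (a : G) * t
      have h2 : (t : G) * n = n * t := mem_centralizer_iff.1 hnC _ htR.1
      have h3 : (t : G) * (c : G) = (c : G) * t := mem_centralizer_iff.1 c.2 t htR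
      calc (t : G) * (a : G) = (t : G) * (c : G) * n := by simp [n, mul_assoc]
        _ = (c : G) * ((t : G) * n) := by rw [h3, mul_assoc]
        _ = (a : G) * t := by rw [h2]; simp [n, mul_assoc]
    exfalso
    have haz' : (a : G) * z = z * a := congrArg Subtype.val haz
    have hnz : n * (z : G) = z * n := by
      calc n * (z : G) = (c : G)⁻¹ * ((a : G) * z) := by simp [n, mul_assoc]
        _ = ((c : G)⁻¹ * z) * a := by rw [haz', mul_assoc]
        _ = (z : G) * n := by rw [hcR _ hzR]; simp [n, mul_assoc]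
    have hzF : (z : G) ∈ centralizer (N : Set G) := hgen n hnN hnC _ hzR.1 hnz
    exact hz1 (Subtype.ext (hFK _ ⟨hzR.1, hzF⟩ z.2))
  have hres : Nat.card (principalBlock M K) = Nat.card R := by
    rcases card_of_free hM hRab hfreeK (by rw [hRS]; omega) with h | ⟨h, -⟩
    · exact h
    · rw [hRS] at h; omega
  left
  rw [hres, mul_comm, hmulcard]

end Cfsg.Agent.InvolRankOne
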