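import Cfsg.Agent.Lib.InvolRankOne.Setup

/-!
# The action on the cosets of `M`

A point other than `M` has an orbit under `M` of length divisible by `|P|`.  If this is a power of
2, the odd normal subgroup `W` fixes the point; so `W` is trivial if there are at most `2|P| + 1`
points and no normal subgroup of odd order.
-/

set_option autoImplicit false
set_option linter.style.haveILetI false
set_option linter.unusedSectionVars false

namespace Cfsg.Agent.InvolRankOne

open Cfsg Subgroup
open scoped Pointwise

universe u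

variable {G : Type u} [Group G]

theorem relIndex_dvd_index [Finite G] (D N : Subgroup G) [N.Normal] :
    D.relIndex N ∣ D.index := by
  refine Dvd.intro (D ⊔ N).index ?_
  have key : D.relIndex N = D.relIndex (D ⊔ N) := by
    have e1 : ∀ {A B : Subgroup G}, A ≤ B → A.relIndex B * Nat.card A = Nat.card B := fun {A B} h => by
      rw [relIndex, mul_comm, ← Nat.card_congr (subgroupOfEquivOfLe h).toEquiv, card_mul_index]
    have h1 := e1 (le_sup_left : D ≤ D ⊔ N)
    have h2 := e1 (le_sup_right : N ≤ D ⊔ N)
    rw [relIndex_sup_right] at h2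
    have h3 := e1 (inf_le_right : D ⊓ N ≤ N)
    have h4 := e1 (inf_le_left : D ⊓ N ≤ D)
    rw [inf_relIndex_right] at h3
    rw [inf_relIndex_left] at h4
    refine Nat.eq_of_mul_eq_mul_right (Nat.card_pos (α := D)) ?_
    rw [h1, ← h2, ← h3, ← h4]
    ring
  rw [key, relIndex_mul_index le_sup_left]

namespace Setup

variable [Finite G] {P : Sylow 2 G} (S : Setup P)
include S

/-- `W` is trivial when `M` has at most `2 |P| + 1` cosets. -/
theorem W_eq_bot_of_index_le (hO : ∀ K : Subgroup G, K.Normal → Odd (Nat.card K) → K = ⊥)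
    (hM : M P ≠ ⊤) (hidx : (M P).index ≤ 2 * Nat.card (P : Subgroup G) + 1) : W P = ⊥ := by
  classical
  haveI : Fact (Nat.Prime 2) := ⟨Nat.prime_two⟩
  have hSE := S.isStronglyEmbedded hM
  obtain ⟨k, hk⟩ := IsPGroup.iff_card.1 P.2
  haveI hWn : ((W P).subgroupOf (M P)).Normal := normal_subgroupOf_of_le_normalizer S.W_le_normalizer
  have hfix : ∀ g : G, W P ≤ (M P).map (MulAut.conj g).toMonoidHom := by
    intro g
    by_cases hg : g ∈ M P
    · intro w hw
      refine ⟨g⁻¹ * w * g, mul_mem (mul_mem (inv_mem hg) (mem_sup_left hw)) hg, ?_⟩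
      show g * (g⁻¹ * w * g) * g⁻¹ = w
      group
    set D := (M P ⊓ (M P).map (MulAut.conj g).toMonoidHom).subgroupOf (M P)
    have hDodd : Odd (Nat.card D) := by
      rw [Nat.card_congr (subgroupOfEquivOfLe inf_le_left).toEquiv]
      exact hSE.2.2 g hg
    -- the orbit of the point `g M`
    have hle : D.index ≤ (M P).index - 1 := by
      have h1 : D.index = Nat.card (M P ⧸ D) := index_eq_card D
      rw [h1]
      haveI := Fintype.ofFinite (G ⧸ M P)
      have hcompl : Nat.card {p : G ⧸ M P // p ≠ ((1 : G) : G ⧸ M P)} = (M P).index - 1 := by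
        rw [Nat.card_eq_fintype_card, Fintype.card_subtype_compl, Fintype.card_subtype_eq,
          ← Nat.card_eq_fintype_card, index_eq_card]
      rw [← hcompl]
      have hne : ∀ m : M P, (((m : G) * g : G) : G ⧸ M P) ≠ ((1 : G) : G ⧸ M P) := fun m h => by
        have h' := QuotientGroup.eq.1 h
        rw [mul_one, inv_mem_iff] at h'
        exact hg (by simpa using mul_mem (inv_mem m.2) h')
      refine Nat.card_le_card_of_injective
        (fun q : M P ⧸ D => ⟨_, hne q.out⟩) ?_
      intro q r h
      have h' := QuotientGroup.eq.1 (congrArg Subtype.val h)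
      rw [← Quotient.out_eq q, ← Quotient.out_eq r]
      refine QuotientGroup.eq.2 ?_
      rw [mem_subgroupOf, mem_inf]
      refine ⟨mul_mem (inv_mem q.out.2) r.out.2, _, h', ?_⟩
      show g * _ * g⁻¹ = _
      push_cast
      group
    have hdvd : Nat.card (P : Subgroup G) ∣ D.index := by
      have h1 : Nat.card (P : Subgroup G) ∣ Nat.card D * D.index := by
        rw [card_mul_index]; exact card_dvd_of_le S.P_le_M
      refine Nat.Coprime.dvd_of_dvd_mul_left ?_ h1
      rw [hk]
      exact (Nat.coprime_two_left.2 hDodd).pow_left k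
    obtain ⟨j, hj⟩ := hdvd
    have hj0 : 0 < j := by
      rcases Nat.eq_zero_or_pos j with h | h
      · rw [h, mul_zero] at hj; exact absurd hj index_ne_zero_of_finite
      · exact h
    have hj2 : j ≤ 2 := by
      by_contra hcon
      have : Nat.card (P : Subgroup G) * 3 ≤ Nat.card (P : Subgroup G) * j :=
        Nat.mul_le_mul_left _ (by omega)
      have := S.big
      omega
    have hpow : ∃ i, D.index = 2 ^ i := by
      interval_cases j
      · exact ⟨k, by rw [hj, mul_one, hk]⟩
      · exact ⟨k + 1, by rw [hj, hk, pow_succ]⟩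
    obtain ⟨i, hi⟩ := hpow
    have h1 : D.relIndex ((W P).subgroupOf (M P)) ∣ 2 ^ i := hi ▸ relIndex_dvd_index D _
    have h2 : D.relIndex ((W P).subgroupOf (M P)) ∣ Nat.card ((W P).subgroupOf (M P)) :=
      relIndex_dvd_card _ _
    have h3 : Odd (Nat.card ((W P).subgroupOf (M P))) := by
      rw [Nat.card_congr (subgroupOfEquivOfLe (show W P ≤ M P from le_sup_left)).toEquiv]
      exact S.W_odd
    have h4 := Nat.eq_one_of_dvd_coprimes ((Nat.coprime_two_left.2 h3).pow_left i) h1 h2
    intro w hw
    exact (relIndex_eq_one.1 h4 (show (⟨w, mem_sup_left hw⟩ : M P) ∈ (W P).subgroupOf (M P) from hw)).2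
  -- the core of `M`
  set C := (M P).normalCore
  have hWC : W P ≤ C := fun w hw b => by
    obtain ⟨m, hm, e⟩ := hfix b⁻¹ hw
    have : b * w * b⁻¹ = m := by
      rw [← e]
      show b * (b⁻¹ * m * b⁻¹⁻¹) * b⁻¹ = m
      group
    rw [this]; exact hm
  haveI : ((W P).subgroupOf C).Normal := normal_subgroupOf_of_le_normalizer
    ((normalCore_le (M P)).trans S.W_le_normalizer)
  have hle : (W P).subgroupOf C ≤ pPrimeCore 2 C := le_sSup ⟨inferInstance, by
    rw [Nat.card_congr (subgroupOfEquivOfLe hWC).toEquiv, Nat.coprime_two_right]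
    exact S.W_odd⟩
  have hn : ((pPrimeCore 2 C).map C.subtype).Normal := inferInstance
  have h0 : (pPrimeCore 2 C).map C.subtype = ⊥ := hO _ hn (by
    rw [card_map_of_injective C.subtype_injective]
    exact Nat.coprime_two_right.1 PCore.coprime_card_pPrimeCore)
  rw [eq_bot_iff, ← h0]
  exact fun w hw => ⟨⟨w, hWC hw⟩, hle hw, rfl⟩

end Setup

end Cfsg.Agent.InvolRankOne
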