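import Cfsg.Agent.S0205
import Cfsg.Agent.S0223
import Cfsg.Agent.S1279
import Cfsg.Agent.Lib.SSFT.HasSFT
import Cfsg.Agent.Lib.DefectOne.Principal
import Cfsg.Agent.Lib.Transfer.Burnside
import Cfsg.Agent.Lib.BlockCount.Inverted

/-!
# An elementary abelian Sylow 2-subgroup with a free automizer

The centralizers of the involutions have normal 2-complements.  Their cores generate a subgroup `W`
of odd order (solvable signalizer functor theorem), and `W ⊔ N(P)` contains these centralizers, so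
it is strongly embedded unless it is the whole group.
-/

set_option autoImplicit false
set_option linter.style.haveILetI false
set_option linter.unusedSectionVars false

namespace Cfsg.Agent.InvolRankOne

open Cfsg Subgroup
open scoped Pointwise

universe u

variable {G : Type u} [Group G]

/-- An elementary abelian Sylow 2-subgroup of order at least 8 with free automizer. -/
structure Setup (P : Sylow 2 G) : Prop where
  sq : ∀ x ∈ (P : Subgroup G), x * x = 1
  big : 8 ≤ Nat.card (P : Subgroup G)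
  free : ∀ g ∈ normalizer ((P : Subgroup G) : Set G), ∀ x ∈ (P : Subgroup G), x ≠ 1 →
    g * x = x * g → g ∈ centralizer ((P : Subgroup G) : Set G)

/-- The core of the centralizer of `a`. -/
abbrev O (a : G) : Subgroup G := centralizerPPrimeCore 2 a

/-- The subgroup generated by the cores. -/
noncomputable def W (P : Sylow 2 G) : Subgroup G :=
  ⨆ a : {a : G // a ∈ (P : Subgroup G) ∧ a ≠ 1}, O (a : G)

/-- The subgroup generated by the cores and the normalizer. -/
noncomputable def M (P : Sylow 2 G) : Subgroup G :=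
  W P ⊔ normalizer ((P : Subgroup G) : Set G)

variable {P : Sylow 2 G}

namespace Setup

variable (S : Setup P)
include S

theorem comm {x y : G} (hx : x ∈ (P : Subgroup G)) (hy : y ∈ (P : Subgroup G)) : x * y = y * x := by
  have h := S.sq _ ((P : Subgroup G).mul_mem hx hy)
  calc x * y = (x * y) * ((y * x) * (y * x)) := by
        rw [S.sq _ ((P : Subgroup G).mul_mem hy hx), mul_one]
    _ = x * (y * y) * x * (y * x) := by group
    _ = y * x := by rw [S.sq y hy, mul_one, S.sq x hx, one_mul]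

theorem elem : IsElementaryAbelian 2 (P : Subgroup G) :=
  ⟨⟨⟨fun a b => Subtype.ext (S.comm a.2 b.2)⟩⟩, fun x hx => by rw [pow_two, S.sq x hx]⟩

theorem orderOf_eq_two {a : G} (ha : a ∈ (P : Subgroup G)) (ha1 : a ≠ 1) : orderOf a = 2 :=
  orderOf_eq_prime (by rw [pow_two]; exact S.sq a ha) ha1

theorem inv_eq {a : G} (ha : a ∈ (P : Subgroup G)) : a⁻¹ = a :=
  inv_eq_of_mul_eq_one_right (S.sq a ha)

theorem le_cent {a : G} (ha : a ∈ (P : Subgroup G)) :
    (P : Subgroup G) ≤ centralizer ({a} : Set G) :=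
  fun x hx => mem_centralizer_singleton_iff.2 (S.comm hx ha)

theorem P_le_centralizer : (P : Subgroup G) ≤ centralizer ((P : Subgroup G) : Set G) :=
  fun _ hx => mem_centralizer_iff.2 fun _ hy => S.comm hy hx

variable [Finite G]

theorem hasNormalPComplement {a : G} (ha : a ∈ (P : Subgroup G)) (ha1 : a ≠ 1) :
    HasNormalPComplement 2 (centralizer ({a} : Set G)) := by
  have hPC := S.le_cent ha
  refine Transfer.hasNormalPComplement_of_normalizer_le_centralizer (P.subtype hPC) fun g hg => ?_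
  have hgN : (g : G) ∈ normalizer ((P : Subgroup G) : Set G) := by
    refine mem_normalizer_iff.2 fun x => ⟨fun hx => ?_, fun hx => ?_⟩
    · exact (mem_normalizer_iff.1 hg ⟨x, hPC hx⟩).1 hx
    · have hxC : x ∈ centralizer ({a} : Set G) := by
        have := mul_mem (mul_mem (inv_mem g.2) (hPC hx)) g.2
        simpa [mul_assoc] using this
      exact (mem_normalizer_iff.1 hg ⟨x, hxC⟩).2 hx
  have hgC := S.free g hgN a ha ha1 (mem_centralizer_singleton_iff.1 g.2)
  exact mem_centralizer_iff.2 fun x hx => Subtype.ext (mem_centralizer_iff.1 hgC x hx)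

theorem card_C {a : G} (ha : a ∈ (P : Subgroup G)) (ha1 : a ≠ 1) :
    Nat.card (centralizer ({a} : Set G)) = Nat.card (P : Subgroup G) * Nat.card (O a) := by
  haveI : Fact (Nat.Prime 2) := ⟨Nat.prime_two⟩
  have h := (DefectOne.index_pPrimeCore_of_hasNormalPComplement
    (S.hasNormalPComplement ha ha1)).1
  rw [← (P.subtype (S.le_cent ha)).card_eq_multiplicity, Sylow.coe_subtype,
    Nat.card_congr (subgroupOfEquivOfLe (S.le_cent ha)).toEquiv] at h
  rw [show Nat.card (O a) = Nat.card (pPrimeCore 2 (centralizer ({a} : Set G))) from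
    card_map_of_injective (subtype_injective _), mul_comm, ← h, card_mul_index]

theorem mem_O_iff {a y : G} (ha : a ∈ (P : Subgroup G)) (ha1 : a ≠ 1) :
    y ∈ O a ↔ y ∈ centralizer ({a} : Set G) ∧ Odd (orderOf y) := by
  haveI : Fact (Nat.Prime 2) := ⟨Nat.prime_two⟩
  constructor
  · rintro ⟨x, hx, rfl⟩
    refine ⟨x.2, ?_⟩
    rw [Subgroup.coe_subtype, Subgroup.orderOf_coe]
    have h1 : Nat.Coprime (orderOf x) 2 :=
      Nat.Coprime.coprime_dvd_left (Subgroup.orderOf_dvd_natCard _ hx) PCore.coprime_card_pPrimeCore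
    exact Nat.coprime_two_right.1 h1
  · rintro ⟨hy, ho⟩
    refine ⟨⟨y, hy⟩, (DefectOne.index_pPrimeCore_of_hasNormalPComplement
      (S.hasNormalPComplement ha ha1)).2 _ ?_, rfl⟩
    rw [Subgroup.orderOf_mk]
    exact fun h => (Nat.not_even_iff_odd.2 ho) (even_iff_two_dvd.2 h)

theorem O_odd {a : G} (ha : a ∈ (P : Subgroup G)) (ha1 : a ≠ 1) : Odd (Nat.card (O a)) := by
  haveI : Fact (Nat.Prime 2) := ⟨Nat.prime_two⟩
  rw [show Nat.card (O a) = Nat.card (pPrimeCore 2 (centralizer ({a} : Set G))) from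
    card_map_of_injective (subtype_injective _)]
  exact Nat.coprime_two_right.1 PCore.coprime_card_pPrimeCore

theorem O_le {a : G} (_ha : a ∈ (P : Subgroup G)) : O a ≤ centralizer ({a} : Set G) :=
  map_subtype_le _

theorem conj_mem_O {a c y : G} (ha : a ∈ (P : Subgroup G)) (ha1 : a ≠ 1)
    (hc : c ∈ centralizer ({a} : Set G)) (hy : y ∈ O a) : c * y * c⁻¹ ∈ O a := by
  rw [S.mem_O_iff ha ha1] at hy ⊢
  refine ⟨mul_mem (mul_mem hc hy.1) (inv_mem hc), ?_⟩
  rw [← MulAut.conj_apply, MulEquiv.orderOf_eq]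
  exact hy.2

theorem C_le_normalizer_O {a : G} (ha : a ∈ (P : Subgroup G)) (ha1 : a ≠ 1) :
    centralizer ({a} : Set G) ≤ normalizer (O a : Set G) := fun c hc =>
  mem_normalizer_iff.2 fun y => ⟨S.conj_mem_O ha ha1 hc, fun h => by
    simpa [mul_assoc] using S.conj_mem_O ha ha1 (inv_mem hc) h⟩

theorem O_disjoint_P {a : G} (ha : a ∈ (P : Subgroup G)) (ha1 : a ≠ 1) :
    Disjoint (O a) (P : Subgroup G) := disjoint_def.2 fun {x} hx hxP => by
  by_contra hx1
  exact absurd ((S.mem_O_iff ha ha1).1 hx).2 (by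
    rw [S.orderOf_eq_two hxP hx1]; decide)

theorem C_eq {a : G} (ha : a ∈ (P : Subgroup G)) (ha1 : a ≠ 1) :
    centralizer ({a} : Set G) = O a ⊔ (P : Subgroup G) := by
  have hle : O a ⊔ (P : Subgroup G) ≤ centralizer ({a} : Set G) :=
    sup_le (S.O_le ha) (S.le_cent ha)
  refine (eq_of_le_of_card_ge hle ?_).symm
  rw [S.card_C ha ha1, mul_comm, ← Nat.card_prod]
  refine Nat.card_le_card_of_injective
    (fun x => (⟨(x.1 : G) * (x.2 : G), mul_mem (mem_sup_left x.1.2) (mem_sup_right x.2.2)⟩ :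
      (O a ⊔ (P : Subgroup G) : Subgroup G))) ?_
  intro x y h
  exact mul_injective_of_disjoint (S.O_disjoint_P ha ha1) (congrArg Subtype.val h)

theorem exists_decomp {a c : G} (ha : a ∈ (P : Subgroup G)) (ha1 : a ≠ 1)
    (hc : c ∈ centralizer ({a} : Set G)) :
    ∃ y ∈ O a, ∃ e ∈ (P : Subgroup G), y * e = c := by
  rw [S.C_eq ha ha1, ← SetLike.mem_coe,
    coe_mul_of_right_le_normalizer_left _ _ ((S.le_cent ha).trans (S.C_le_normalizer_O ha ha1))] at hc
  exact hc

theorem sft : ¬ 2 ∣ Nat.card (W P) ∧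
    ∀ a ∈ (P : Subgroup G), a ≠ 1 → W P ⊓ centralizer {a} = O a := by
  haveI : Fact (Nat.Prime 2) := ⟨Nat.prime_two⟩
  have h4 : 2 ^ 2 ≤ Nat.card (P : Subgroup G) := le_trans (by norm_num) S.big
  have hsolv : ∀ a ∈ (P : Subgroup G), a ≠ 1 →
      Group.IsSolvable (centralizer ({a} : Set G)) := fun a ha ha1 => by
    set C := centralizer ({a} : Set G)
    set N := pPrimeCore 2 C
    haveI : Group.IsSolvable N :=
      S0205.result (Nat.coprime_two_right.1 PCore.coprime_card_pPrimeCore)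
    have hidx := (DefectOne.index_pPrimeCore_of_hasNormalPComplement
      (S.hasNormalPComplement ha ha1)).1
    haveI : Group.IsNilpotent (C ⧸ N) :=
      (IsPGroup.of_card (by rw [← index_eq_card]; exact hidx)).isNilpotent
    exact Group.isSolvable_of_ker_le_range N.subtype (QuotientGroup.mk' N) (by simp)
  have hθ := S1279.result 2 (P : Subgroup G) S.elem h4 hsolv
  exact SSFT.hasSFT G (P : Subgroup G) (fun a ha b hb => S.comm ha hb) S.elem.2
    (le_trans (by norm_num) S.big) (fun a => centralizerPPrimeCore 2 a)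
    hθ.1.1 hθ.1.2.1 hθ.1.2.2.1 hθ.2 hθ.1.2.2.2

theorem W_odd : Odd (Nat.card (W P)) :=
  Nat.not_even_iff_odd.1 fun h => S.sft.1 (even_iff_two_dvd.1 h)

theorem W_inf {a : G} (ha : a ∈ (P : Subgroup G)) (ha1 : a ≠ 1) :
    W P ⊓ centralizer {a} = O a := S.sft.2 a ha ha1

theorem O_le_W {a : G} (ha : a ∈ (P : Subgroup G)) (ha1 : a ≠ 1) : O a ≤ W P :=
  le_iSup (fun b : {a : G // a ∈ (P : Subgroup G) ∧ a ≠ 1} => O (b : G)) ⟨a, ha, ha1⟩

theorem N_le_normalizer_W :
    normalizer ((P : Subgroup G) : Set G) ≤ normalizer (W P : Set G) := by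
  have key : ∀ n ∈ normalizer ((P : Subgroup G) : Set G), ∀ w ∈ W P, n * w * n⁻¹ ∈ W P := by
    intro n hn w hw
    have h1 : (W P).map (MulAut.conj n).toMonoidHom ≤ W P := by
      rw [W, Subgroup.map_iSup]
      refine iSup_le fun b => le_trans (Signalizer.map_centralizerPPrimeCore (b : G) n) ?_
      exact le_iSup (fun c : {c : G // c ∈ (P : Subgroup G) ∧ c ≠ 1} => O (c : G))
        ⟨n * b * n⁻¹, (mem_normalizer_iff.1 hn b).1 b.2.1,
          fun h => b.2.2 (conj_eq_one_iff.1 h)⟩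
    exact h1 ⟨w, hw, rfl⟩
  exact fun n hn => mem_normalizer_iff.2 fun w =>
    ⟨key n hn w, fun h => by simpa [mul_assoc] using key n⁻¹ (inv_mem hn) _ h⟩

theorem P_le_M : (P : Subgroup G) ≤ M P := le_normalizer.trans le_sup_right

theorem C_le_M {a : G} (ha : a ∈ (P : Subgroup G)) (ha1 : a ≠ 1) :
    centralizer ({a} : Set G) ≤ M P := by
  rw [S.C_eq ha ha1]
  exact sup_le ((S.O_le_W ha ha1).trans le_sup_left) S.P_le_M

theorem W_le_normalizer : M P ≤ normalizer (W P : Set G) :=
  sup_le le_normalizer S.N_le_normalizer_W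

/-- An involution of `M` is conjugate in `M` to an element of `P`. -/
theorem exists_conj_mem {s : G} (hs : s ∈ M P) (hs2 : orderOf s = 2) :
    ∃ m ∈ M P, m * s * m⁻¹ ∈ (P : Subgroup G) ∧ m * s * m⁻¹ ≠ 1 := by
  haveI : Fact (Nat.Prime 2) := ⟨Nat.prime_two⟩
  let P' := P.subtype S.P_le_M
  have hpg : IsPGroup 2 (zpowers (⟨s, hs⟩ : M P)) := IsPGroup.of_card (n := 1) (by
    rw [Nat.card_zpowers, Subgroup.orderOf_mk, hs2, pow_one])
  obtain ⟨Q, hQ⟩ := hpg.exists_le_sylow
  obtain ⟨m, hm⟩ := MulAction.exists_smul_eq (M P) Q P'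
  refine ⟨m, m.2, ?_, fun h => ?_⟩
  · have h1 : (MulAut.conj m) (⟨s, hs⟩ : M P) ∈ ((m • Q : Sylow 2 (M P)) : Subgroup (M P)) :=
      ⟨⟨s, hs⟩, hQ (mem_zpowers _), rfl⟩
    rw [hm] at h1
    exact h1
  · rw [conj_eq_one_iff.1 h, orderOf_one] at hs2
    exact absurd hs2 (by norm_num)

theorem isStronglyEmbedded (hM : M P ≠ ⊤) : IsStronglyEmbedded (M P) := by
  haveI : Fact (Nat.Prime 2) := ⟨Nat.prime_two⟩
  obtain ⟨k, hk⟩ := IsPGroup.iff_card.1 P.2
  have h2 : Even (Nat.card (M P)) := by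
    refine even_iff_two_dvd.2 (dvd_trans ?_ (card_dvd_of_le S.P_le_M))
    rw [hk]
    refine dvd_pow_self 2 fun h => ?_
    have := S.big
    rw [hk, h, pow_zero] at this
    omega
  rw [S0223.result (M P) hM h2]
  constructor
  · intro t ht ht2
    obtain ⟨m, hm, hmt, hmt1⟩ := S.exists_conj_mem ht ht2
    intro c hc
    have hc' : m * c * m⁻¹ ∈ centralizer ({m * t * m⁻¹} : Set G) := by
      rw [mem_centralizer_singleton_iff] at hc ⊢
      calc m * c * m⁻¹ * (m * t * m⁻¹) = m * (c * t) * m⁻¹ := by group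
        _ = m * (t * c) * m⁻¹ := by rw [hc]
        _ = m * t * m⁻¹ * (m * c * m⁻¹) := by group
    have := mul_mem (mul_mem (inv_mem hm) (S.C_le_M hmt hmt1 hc')) hm
    simpa [mul_assoc] using this
  · intro t ht s hs ht2 hs2 hts
    obtain ⟨m, hm, hmt, -⟩ := S.exists_conj_mem ht ht2
    obtain ⟨n, hn, hns, -⟩ := S.exists_conj_mem hs hs2
    obtain ⟨g, hg⟩ := isConj_iff.1 hts
    have hcomm : IsMulCommutative (P : Subgroup G) := ⟨⟨fun a b => Subtype.ext (S.comm a.2 b.2)⟩⟩
    obtain ⟨w, hw, he⟩ := Sylow.conj_eq_normalizer_conj_of_mem P (m * t * m⁻¹)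
      (m * g⁻¹ * n⁻¹) hmt (by
        rw [show (m * g⁻¹ * n⁻¹)⁻¹ * (m * t * m⁻¹) * (m * g⁻¹ * n⁻¹) =
          n * (g * t * g⁻¹) * n⁻¹ by group, hg]
        exact hns)
    refine ⟨n⁻¹ * w⁻¹ * m, mul_mem (mul_mem (inv_mem hn) (inv_mem (mem_sup_right hw))) hm, ?_⟩
    rw [show n⁻¹ * w⁻¹ * m * t * (n⁻¹ * w⁻¹ * m)⁻¹ =
      n⁻¹ * (w⁻¹ * (m * t * m⁻¹) * w) * n by group, ← he, ← hg]
    group

/-- Without a normal subgroup of odd order, `P` is normal and self-centralizing if `M` is everything. -/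
theorem normal_of_eq_top (hO : ∀ K : Subgroup G, K.Normal → Odd (Nat.card K) → K = ⊥)
    (hM : M P = ⊤) :
    (P : Subgroup G).Normal ∧ centralizer ((P : Subgroup G) : Set G) = (P : Subgroup G) := by
  have hWn : (W P).Normal := normalizer_eq_top_iff.1 (top_le_iff.1 (hM ▸ S.W_le_normalizer))
  have hW : W P = ⊥ := hO _ hWn S.W_odd
  have hN : normalizer ((P : Subgroup G) : Set G) = ⊤ := by
    rw [← hM, M, hW, bot_sup_eq]
  refine ⟨normalizer_eq_top_iff.1 hN, le_antisymm ?_ S.P_le_centralizer⟩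
  obtain ⟨a, ha, ha1⟩ : ∃ a ∈ (P : Subgroup G), a ≠ 1 := by
    by_contra h
    push Not at h
    have := S.big
    rw [(eq_bot_iff_forall _).2 h, card_bot] at this
    omega
  have hOa : O a = ⊥ := eq_bot_iff.2 ((S.O_le_W ha ha1).trans hW.le)
  refine le_trans (centralizer_le (Set.singleton_subset_iff.2 ha)) ?_
  rw [S.C_eq ha ha1, hOa, bot_sup_eq]

theorem W_disjoint_P : Disjoint (W P) (P : Subgroup G) := disjoint_def.2 fun {x} hx hxP => by
  by_contra hx1
  have h : Odd (orderOf x) := S.W_odd.of_dvd_nat ((W P).orderOf_dvd_natCard hx)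
  rw [S.orderOf_eq_two hxP hx1] at h
  exact absurd h (by decide)

theorem W_inf_N_le :
    W P ⊓ normalizer ((P : Subgroup G) : Set G) ≤ centralizer ((P : Subgroup G) : Set G) := by
  rintro w ⟨hw, hwN⟩
  refine mem_centralizer_iff.2 fun x hx => ?_
  have h1 : x * w * x⁻¹ * w⁻¹ ∈ W P :=
    mul_mem ((mem_normalizer_iff.1 (S.N_le_normalizer_W (le_normalizer hx)) w).1 hw) (inv_mem hw)
  have h2 : x * w * x⁻¹ * w⁻¹ ∈ (P : Subgroup G) := by
    rw [show x * w * x⁻¹ * w⁻¹ = x * (w * x⁻¹ * w⁻¹) by group]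
    exact mul_mem hx ((mem_normalizer_iff.1 hwN _).1 (inv_mem hx))
  have h := disjoint_def.1 S.W_disjoint_P h1 h2
  rwa [mul_inv_eq_one, mul_inv_eq_iff_eq_mul] at h

theorem card_W_mul_le :
    Nat.card (W P) * Nat.card (P : Subgroup G) *
      (centralizer ((P : Subgroup G) : Set G)).relIndex
        (normalizer ((P : Subgroup G) : Set G)) ≤ Nat.card (M P) := by
  set N := normalizer ((P : Subgroup G) : Set G)
  set C := centralizer ((P : Subgroup G) : Set G)
  set T := W P ⊓ N
  have hTC : T ≤ C := S.W_inf_N_le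
  have h1 : Nat.card T * Nat.card (P : Subgroup G) ≤ Nat.card C := by
    rw [← Nat.card_prod]
    refine Nat.card_le_card_of_injective
      (fun x => (⟨(x.1 : G) * (x.2 : G), mul_mem (hTC x.1.2) (S.P_le_centralizer x.2.2)⟩ : C)) ?_
    intro x y h
    exact mul_injective_of_disjoint (S.W_disjoint_P.mono_left inf_le_left)
      (congrArg Subtype.val h)
  have h2 : C.relIndex N * Nat.card C = Nat.card N := by
    rw [relIndex, ← (C.subgroupOf N).card_mul_index, mul_comm,
      Nat.card_congr (subgroupOfEquivOfLe (show C ≤ N from centralizer_le_normalizer _)).toEquiv]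
  have h3 : Nat.card (W P) * Nat.card N ≤ Nat.card (M P) * Nat.card T := by
    rw [← Nat.card_prod, ← Nat.card_prod]
    classical
    haveI := Fintype.ofFinite (M P)
    let f : W P × N → M P := fun x => ⟨x.1 * x.2, mul_mem (mem_sup_left x.1.2) (mem_sup_right x.2.2)⟩
    let r : M P → W P × N := fun z => if h : ∃ y, f y = z then h.choose else 1
    refine Nat.card_le_card_of_injective
      (fun x => (f x, (⟨((r (f x)).1 : G)⁻¹ * (x.1 : G), mem_inf.2 ⟨mul_mem (inv_mem (r (f x)).1.2) x.1.2, ?_⟩⟩ : T))) ?_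
    · have hr : f (r (f x)) = f x := by
        simp only [r, dif_pos (⟨x, rfl⟩ : ∃ y, f y = f x)]
        exact (⟨x, rfl⟩ : ∃ y, f y = f x).choose_spec
      have hr' := congrArg Subtype.val hr
      simp only [f] at hr'
      have : ((r (f x)).1 : G)⁻¹ * x.1 = (r (f x)).2 * (x.2 : G)⁻¹ := by
        rw [eq_mul_inv_iff_mul_eq, mul_assoc, ← hr', inv_mul_cancel_left]
      rw [this]
      exact mul_mem (r (f x)).2.2 (inv_mem x.2.2)
    · intro x y h
      simp only [Prod.mk.injEq, Subtype.mk.injEq] at h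
      obtain ⟨h, h'⟩ := h
      rw [h] at h'
      have e1 : x.1 = y.1 := Subtype.ext (mul_left_cancel h')
      have h'' := congrArg Subtype.val h
      simp only [f, e1] at h''
      exact Prod.ext e1 (Subtype.ext (mul_left_cancel h''))
  have hT : 0 < Nat.card T := Nat.card_pos
  refine Nat.le_of_mul_le_mul_right ?_ hT
  calc Nat.card (W P) * Nat.card (P : Subgroup G) * C.relIndex N * Nat.card T
      = Nat.card (W P) * (C.relIndex N * (Nat.card T * Nat.card (P : Subgroup G))) := by ring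
    _ ≤ Nat.card (W P) * (C.relIndex N * Nat.card C) :=
        Nat.mul_le_mul_left _ (Nat.mul_le_mul_left _ h1)
    _ = Nat.card (W P) * Nat.card N := by rw [h2]
    _ ≤ Nat.card (M P) * Nat.card T := h3

end Setup

end Cfsg.Agent.InvolRankOne
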