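import Cfsg.Agent.Lib.InvolRankOne.Tight
import Cfsg.Agent.Lib.InvolRankOne.Perm
import Cfsg.Agent.S1230
import Cfsg.Agent.S0224

/-!
# The structure for an automizer of order `|P| - 1`

For `|P| = 8` or `16` and an automizer of order `|P| - 1`, a group without normal subgroups of odd
order has `P` normal or is `PSL(2, |P|)`.
-/

set_option autoImplicit false
set_option linter.style.haveILetI false
set_option linter.unusedSectionVars false

namespace Cfsg.Agent.InvolRankOne

open Cfsg Subgroup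
open scoped ComplexConjugate Classical

universe u

variable {G : Type u} [Group G] [Fintype G]

namespace Setup

variable {P : Sylow 2 G} (S : Setup P) {M : Ideal AlgInt} [Fact (Nat.Prime 2)] [M.IsMaximal]
include S

/-- The points of `G/M` other than `M` fall into regular orbits of `P`. -/
theorem index_modEq (hM : InvolRankOne.M P ≠ ⊤) :
    (InvolRankOne.M P).index ≡ 1 [MOD Nat.card (P : Subgroup G)] := by
  set H := InvolRankOne.M P with hH
  have hSE := S.isStronglyEmbedded hM
  have hev : Even (Nat.card H) := hSE.2.1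
  have hfix := (S0224.result H hM hev).1 hSE
  have h := MulAction.sum_card_fixedBy_eq_card_orbits_mul_card_group (P : Subgroup G) (G ⧸ H)
  have h1 : ∀ x : (P : Subgroup G), Fintype.card (MulAction.fixedBy (G ⧸ H) x) =
      if x = 1 then H.index else 1 := by
    intro x
    rw [← Nat.card_eq_fintype_card]
    split_ifs with hx
    · subst hx
      rw [index_eq_card]
      exact Nat.card_congr (Equiv.subtypeUnivEquiv fun v => by simp)
    · exact hfix x (S.P_le_M x.2) (S.orderOf_eq_two x.2 fun e => hx (Subtype.ext e))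
  simp only [h1] at h
  rw [← Finset.add_sum_erase _ _ (Finset.mem_univ (1 : (P : Subgroup G))), if_pos rfl,
    Finset.sum_congr rfl fun x hx => if_neg (Finset.ne_of_mem_erase hx), Finset.sum_const,
    Finset.card_erase_of_mem (Finset.mem_univ _), Finset.card_univ, smul_eq_mul, mul_one,
    ← Nat.card_eq_fintype_card (α := (P : Subgroup G))] at h
  have hq : 0 < Nat.card (P : Subgroup G) := Nat.card_pos
  have hc : ∀ m, H.index + (Nat.card (P : Subgroup G) - 1) = m * Nat.card (P : Subgroup G) →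
      H.index ≡ 1 [MOD Nat.card (P : Subgroup G)] := fun m hm => by
    refine Nat.ModEq.add_right_cancel' (Nat.card (P : Subgroup G) - 1) ?_
    rw [hm, Nat.add_sub_cancel' hq, Nat.ModEq, Nat.mul_mod_left, Nat.mod_self]
  exact hc _ h

/-- Every member of the principal block has a nonzero multiplicity of the trivial character of `P`
unless `W` is trivial. -/
theorem degree_ge (hO : ∀ K : Subgroup G, K.Normal → Odd (Nat.card K) → K = ⊥)
    (hM : IsPModular 2 M) (hT : Transitive P) (hW : W P ≠ ⊥) {u : G} (hu : u ∈ (P : Subgroup G))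
    (hu1 : u ≠ 1) {χ : IrrCharacter G} (hχ : χ ∈ principalBlock M G) {d : ℤ} (hd : χ.1 u = d) :
    (Nat.card (P : Subgroup G) : ℤ) ≤
      charDegree χ.1 + ((Nat.card (P : Subgroup G) : ℤ) - 1) * d := by
  obtain ⟨r, hr⟩ := S.exists_mult χ
  have hsum : ∑ x : (P : Subgroup G), χ.1 x =
      (charDegree χ.1 : ℂ) + ((Nat.card (P : Subgroup G) : ℂ) - 1) * d := by
    rw [← Finset.add_sum_erase _ _ (Finset.mem_univ (1 : (P : Subgroup G))),
      Finset.sum_congr rfl (g := fun _ => (d : ℂ)) fun x hx => by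
        rw [← hd]
        exact S.apply_eq hT χ x.2 (fun e => Finset.ne_of_mem_erase hx (Subtype.ext e)) hu hu1,
      Finset.sum_const, Finset.card_erase_of_mem (Finset.mem_univ _), Finset.card_univ,
      OneMemClass.coe_one, nsmul_eq_mul, ← Nat.card_eq_fintype_card, Char.charDegree_cast,
      Nat.cast_sub Nat.card_pos, Nat.cast_one]
  have hr0 : r ≠ 0 := fun e => hW (S.W_eq_bot_of_sum_eq_zero hO hM hT hχ (by
    rw [hr, e, Nat.cast_zero, mul_zero]))
  rw [hsum] at hr
  have hr' : (charDegree χ.1 : ℤ) + ((Nat.card (P : Subgroup G) : ℤ) - 1) * d =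
      (Nat.card (P : Subgroup G) : ℤ) * r := by exact_mod_cast hr
  rw [hr']
  exact le_mul_of_one_le_right (Int.natCast_nonneg _) (by exact_mod_cast Nat.pos_of_ne_zero hr0)

omit [Fact (Nat.Prime 2)] [M.IsMaximal] in
theorem exists_mem_ne_one : ∃ u ∈ (P : Subgroup G), u ≠ 1 := by
  by_contra h
  push Not at h
  have := S.big
  rw [(eq_bot_iff_forall _).2 h, card_bot] at this
  omega

end Setup

theorem cube_bound_eight {d : ℤ} {f : ℕ} (hf : 0 < f) (h : (8 : ℤ) ≤ f + 7 * d) (hd : d * d ≤ 7) :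
    -((d : ℝ) ^ 2) / 11 ≤ (d : ℝ) ^ 3 / f := by
  have hf' : (0 : ℝ) < f := Nat.cast_pos.2 hf
  have hfr : (8 : ℝ) ≤ f + 7 * d := by exact_mod_cast h
  have h1 : -2 ≤ d ∧ d ≤ 2 := by constructor <;> nlinarith
  rw [div_le_div_iff₀ (by norm_num) hf']
  obtain ⟨ha, hb⟩ := h1
  interval_cases d <;> push_cast at hfr ⊢ <;> nlinarith

theorem cube_bound_sixteen {d : ℤ} {f : ℕ} (hf : 0 < f) (h : (16 : ℤ) ≤ f + 15 * d)
    (hd : d * d ≤ 15) :
    -((d : ℝ) ^ 2 / 31 + (if d * d = 4 then (32 : ℝ) / 713 else 0) +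
      (if d * d = 9 then (288 : ℝ) / 1891 else 0)) ≤ (d : ℝ) ^ 3 / f := by
  have hf' : (0 : ℝ) < f := Nat.cast_pos.2 hf
  have hfr : (16 : ℝ) ≤ f + 15 * d := by exact_mod_cast h
  have h1 : -3 ≤ d ∧ d ≤ 3 := by constructor <;> nlinarith
  rw [le_div_iff₀ hf']
  obtain ⟨ha, hb⟩ := h1
  interval_cases d <;> push_cast at hfr <;> norm_num <;> linarith

namespace Setup

variable {P : Sylow 2 G} (S : Setup P) {M : Ideal AlgInt} [Fact (Nat.Prime 2)] [M.IsMaximal]
include S

theorem W_eq_bot (hq : Nat.card (P : Subgroup G) = 8 ∨ Nat.card (P : Subgroup G) = 16)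
    (he : Nat.card (P : Subgroup G) - 1 ≤ (centralizer ((P : Subgroup G) : Set G)).relIndex
      (normalizer ((P : Subgroup G) : Set G)))
    (hO : ∀ K : Subgroup G, K.Normal → Odd (Nat.card K) → K = ⊥)
    (hT : Transitive P) (hM : IsPModular 2 M) (hMt : InvolRankOne.M P ≠ ⊤) : W P = ⊥ := by
  by_cases hidx : (InvolRankOne.M P).index ≤ 2 * Nat.card (P : Subgroup G) + 1
  · exact S.W_eq_bot_of_index_le hO hMt hidx
  by_contra hW
  obtain ⟨u, hu, hu1⟩ := S.exists_mem_ne_one
  choose d hd using fun χ : IrrCharacter G => S.exists_int hu χ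
  set q := Nat.card (P : Subgroup G) with hqdef
  set B := Finset.univ.filter (fun χ : IrrCharacter G => χ ∈ principalBlock M G) with hBdef
  have hn : 3 * q + 1 ≤ (InvolRankOne.M P).index := by
    have h1 := S.index_modEq hMt
    rw [← hqdef, Nat.ModEq] at h1
    rcases hq with e | e <;> rw [e] at h1 hidx ⊢ <;> omega
  -- the bound from the class sum
  have hup := S.sum_cube_le hM hT hu hu1 d hd
  rw [← hqdef, ← hBdef, ← card_mul_index (InvolRankOne.M P)] at hup
  set R := ∑ χ ∈ B, (d χ : ℝ) ^ 3 / charDegree χ.1 with hR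
  have hsq : ∑ χ ∈ B, d χ * d χ = (q : ℤ) := by
    have h := S.sum_sq hM hu hu1
    rw [Finset.sum_congr rfl (g := fun χ => ((d χ * d χ : ℤ) : ℂ)) fun χ _ => by
      rw [hd χ, map_intCast, Int.cast_mul], ← Int.cast_sum] at h
    exact_mod_cast h
  set t := Char.trivialChar G
  have ht : t ∈ B := Finset.mem_filter.2 ⟨Finset.mem_univ _, Blocks.trivial_mem_principalBlock⟩
  have hdt : d t = 1 := by
    have := hd t
    rw [Char.trivialChar_apply] at this
    exact_mod_cast this.symm
  have hft : charDegree t.1 = 1 := by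
    have := Char.charDegree_cast t
    rw [Char.trivialChar_apply] at this
    exact_mod_cast this
  have hrest : ∑ χ ∈ B.erase t, d χ * d χ = (q : ℤ) - 1 := by
    rw [Finset.sum_erase_eq_sub ht, hsq, hdt]; ring
  have hle : ∀ χ ∈ B.erase t, d χ * d χ ≤ (q : ℤ) - 1 := fun χ hχ =>
    hrest ▸ Finset.single_le_sum (f := fun χ => d χ * d χ) (fun χ _ => mul_self_nonneg _) hχ
  have hdeg : ∀ χ ∈ B.erase t, 0 < charDegree χ.1 ∧
      (q : ℤ) ≤ charDegree χ.1 + ((q : ℤ) - 1) * d χ := fun χ hχ =>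
    ⟨Char.charDegree_pos χ, S.degree_ge hO hM hT hW hu hu1
      (Finset.mem_filter.1 (Finset.mem_of_mem_erase hχ)).2 (hd χ)⟩
  have hRsplit : R = 1 + ∑ χ ∈ B.erase t, (d χ : ℝ) ^ 3 / charDegree χ.1 := by
    rw [hR, ← Finset.add_sum_erase _ _ ht, hdt, hft]; norm_num
  have hMle : (Nat.card (W P) * q * (q - 1) : ℕ) ≤ Nat.card (InvolRankOne.M P) :=
    le_trans (Nat.mul_le_mul_left _ he) S.card_W_mul_le
  have hWpos : (0 : ℝ) < Nat.card (W P) := Nat.cast_pos.2 Nat.card_pos
  -- it is too small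
  suffices hlow : ((q : ℝ) ^ 2 * (q - 2)) < R * ((q : ℝ) * (q - 1) * (3 * q + 1)) by
    have h2 : (2 : ℕ) ≤ q := le_trans (by norm_num) S.big
    push_cast [Nat.cast_sub h2] at hup
    have hMle' : (Nat.card (W P) : ℝ) * q * ((q : ℝ) - 1) ≤ Nat.card (InvolRankOne.M P) := by
      have := (Nat.cast_le (α := ℝ)).2 hMle
      push_cast [Nat.cast_sub (show 1 ≤ q by omega)] at this
      exact this
    have hn' : (3 : ℝ) * q + 1 ≤ (InvolRankOne.M P).index := by exact_mod_cast hn
    have hR0 : 0 ≤ R := by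
      have : (0 : ℝ) ≤ (q : ℝ) * (q - 1) * (3 * q + 1) := by
        have : (2 : ℝ) ≤ q := by exact_mod_cast h2
        exact mul_nonneg (mul_nonneg (by linarith) (by linarith)) (by linarith)
      have h8 : (2 : ℝ) ≤ q := by exact_mod_cast h2
      by_contra hneg
      nlinarith [mul_nonneg (sq_nonneg (q : ℝ)) (sub_nonneg.2 h8),
        mul_nonpos_of_nonpos_of_nonneg (not_le.1 hneg).le this]
    have hq1 : (0 : ℝ) ≤ (q : ℝ) - 1 := by
      have : (2 : ℝ) ≤ q := by exact_mod_cast h2
      linarith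
    have hprod := mul_le_mul hMle' hn' (by positivity) (Nat.cast_nonneg _)
    nlinarith [mul_le_mul_of_nonneg_left hprod hR0]
  rcases hq with e | e
  · have hb : -(7 : ℝ) / 11 ≤ ∑ χ ∈ B.erase t, (d χ : ℝ) ^ 3 / charDegree χ.1 := by
      have hrest' : ∑ χ ∈ B.erase t, (d χ : ℝ) ^ 2 = 7 := by
        have h' : (∑ χ ∈ B.erase t, d χ * d χ) = (7 : ℤ) := by rw [hrest, e]; norm_num
        have := congrArg (Int.cast : ℤ → ℝ) h'
        push_cast at this
        simpa [pow_two] using this
      refine le_trans (le_of_eq ?_) (Finset.sum_le_sum fun χ hχ => cube_bound_eight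
        (hdeg χ hχ).1 (by simpa [e] using (hdeg χ hχ).2) (by simpa [e] using hle χ hχ))
      rw [← Finset.sum_div, Finset.sum_neg_distrib, hrest']
    rw [hRsplit, e]
    norm_num
    nlinarith
  · set a := ((B.erase t).filter fun χ => d χ * d χ = 9).card
    set b := ((B.erase t).filter fun χ => d χ * d χ = 4).card
    have hab : 4 * (b : ℤ) + 9 * a ≤ 15 := by
      have h1 : ∑ χ ∈ B.erase t, ((if d χ * d χ = 4 then (4 : ℤ) else 0) +
          (if d χ * d χ = 9 then 9 else 0)) ≤ ∑ χ ∈ B.erase t, d χ * d χ :=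
        Finset.sum_le_sum fun χ _ => by
          have := mul_self_nonneg (d χ)
          split_ifs <;> omega
      rw [hrest, e, Finset.sum_add_distrib, Finset.sum_ite, Finset.sum_ite] at h1
      simp only [Finset.sum_const, nsmul_eq_mul, Finset.sum_const_zero, add_zero] at h1
      norm_num at h1
      linarith
    have hb : -((15 : ℝ) / 31 + b * ((32 : ℝ) / 713) + a * ((288 : ℝ) / 1891)) ≤
        ∑ χ ∈ B.erase t, (d χ : ℝ) ^ 3 / charDegree χ.1 := by
      have hrest' : ∑ χ ∈ B.erase t, (d χ : ℝ) ^ 2 = 15 := by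
        have h' : (∑ χ ∈ B.erase t, d χ * d χ) = (15 : ℤ) := by rw [hrest, e]; norm_num
        have := congrArg (Int.cast : ℤ → ℝ) h'
        push_cast at this
        simpa [pow_two] using this
      refine le_trans (le_of_eq ?_) (Finset.sum_le_sum fun χ hχ => cube_bound_sixteen
        (hdeg χ hχ).1 (by simpa [e] using (hdeg χ hχ).2) (by simpa [e] using hle χ hχ))
      rw [Finset.sum_neg_distrib, Finset.sum_add_distrib, Finset.sum_add_distrib, ← Finset.sum_div,
        hrest', Finset.sum_ite, Finset.sum_ite]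
      simp [a, b]
    have hw : (b : ℝ) * ((32 : ℝ) / 713) + (a : ℝ) * ((288 : ℝ) / 1891) ≤ 32 / 713 + 288 / 1891 := by
      have ha : a ≤ 1 := by omega
      have hb3 : b ≤ 3 := by omega
      interval_cases a <;> interval_cases b <;> first | omega | norm_num
    rw [hRsplit, e]
    norm_num
    nlinarith

/-- Without normal subgroups of odd order, `P` is normal or `G` is `PSL(2, |P|)`. -/
theorem normal_or_psl (hq : Nat.card (P : Subgroup G) = 8 ∨ Nat.card (P : Subgroup G) = 16)
    (he : Nat.card (P : Subgroup G) - 1 ≤ (centralizer ((P : Subgroup G) : Set G)).relIndex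
      (normalizer ((P : Subgroup G) : Set G)))
    (hO : ∀ K : Subgroup G, K.Normal → Odd (Nat.card K) → K = ⊥)
    (hT : Transitive P) (hM : IsPModular 2 M) :
    ((P : Subgroup G).Normal ∧ centralizer ((P : Subgroup G) : Set G) = (P : Subgroup G)) ∨
    ∃ (F : Type) (_ : Field F) (_ : Fintype F), Fintype.card F = Nat.card (P : Subgroup G) ∧
      Nonempty (G ≃* Matrix.ProjectiveSpecialLinearGroup (Fin 2) F) := by
  by_cases hMt : InvolRankOne.M P = ⊤
  · exact Or.inl (S.normal_of_eq_top hO hMt)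
  have hW := S.W_eq_bot hq he hO hT hM hMt
  have hC : ∀ {a : G}, a ∈ (P : Subgroup G) → a ≠ 1 →
      centralizer ({a} : Set G) = (P : Subgroup G) := fun ha ha1 => by
    rw [S.C_eq ha ha1, eq_bot_iff.2 ((S.O_le_W ha ha1).trans hW.le), bot_sup_eq]
  have hncyc : ¬ IsCyclic (P : Subgroup G) := fun h => by
    obtain ⟨g, hg⟩ := h.exists_generator
    have h1 : Nat.card (P : Subgroup G) ≤ 2 := by
      rw [← Nat.card_congr (Equiv.subtypeUnivEquiv hg), Nat.card_zpowers]
      exact Nat.le_of_dvd two_pos (orderOf_dvd_of_pow_eq_one (Subtype.ext (by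
        rw [pow_two]; exact S.sq g g.2)))
    have := S.big
    omega
  refine Or.inr (S1230.result P hncyc (fun hn => hMt ?_) fun t ht => ?_)
  · rw [InvolRankOne.M, hW, bot_sup_eq]
    exact normalizer_eq_top_iff.2 hn
  obtain ⟨Q, hQ⟩ := (IsPGroup.of_card (n := 1) (by
    rw [Nat.card_zpowers, ht, pow_one]) : IsPGroup 2 (zpowers t)).exists_le_sylow
  obtain ⟨g, hg⟩ := MulAction.exists_smul_eq G Q P
  have ha : g * t * g⁻¹ ∈ (P : Subgroup G) := by
    rw [← hg]; exact ⟨t, hQ (mem_zpowers t), rfl⟩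
  have ha1 : g * t * g⁻¹ ≠ 1 := fun h => by
    rw [conj_eq_one_iff.1 h, orderOf_one] at ht
    exact absurd ht (by norm_num)
  have hmem : ∀ c ∈ centralizer ({t} : Set G), g * c * g⁻¹ ∈ (P : Subgroup G) := fun c hc => by
    rw [← hC ha ha1, mem_centralizer_singleton_iff]
    have h := mem_centralizer_singleton_iff.1 hc
    calc g * c * g⁻¹ * (g * t * g⁻¹) = g * (c * t) * g⁻¹ := by group
      _ = g * (t * c) * g⁻¹ := by rw [h]
      _ = g * t * g⁻¹ * (g * c * g⁻¹) := by group
  refine ⟨⟨⟨fun c c' => Subtype.ext ?_⟩⟩, fun c hc => ?_⟩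
  · have h := S.comm (hmem c c.2) (hmem c' c'.2)
    rw [show g * c.1 * g⁻¹ * (g * c'.1 * g⁻¹) = g * (c.1 * c'.1) * g⁻¹ by group,
      show g * c'.1 * g⁻¹ * (g * c.1 * g⁻¹) = g * (c'.1 * c.1) * g⁻¹ by group] at h
    exact mul_left_cancel (mul_right_cancel h)
  · have h := S.sq _ (hmem c hc)
    rw [show g * c * g⁻¹ * (g * c * g⁻¹) = g * (c * c) * g⁻¹ by group, conj_eq_one_iff] at h
    rw [pow_two, h]

end Setup

end Cfsg.Agent.InvolRankOne
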