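import Cfsg.Agent.Lib.InvolRankOne.CardBound
import Cfsg.Agent.Lib.CharInt.Basic
import Cfsg.Agent.Lib.Coprime.Generation
import Mathlib.LinearAlgebra.Trace

/-!
# A block character without fixed points on `P` kills the signalizer

If a member of the principal block restricts to `P` without the trivial constituent, then every
element of `W` centralizing a subgroup with cyclic quotient in `P` lies in its kernel, so `W = 1`.
-/

set_option autoImplicit false
set_option linter.style.haveILetI false
set_option linter.unusedSectionVars false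

namespace Cfsg.Agent.InvolRankOne

open Cfsg Subgroup
open scoped ComplexConjugate Classical

universe u

variable {G : Type u} [Group G] [Fintype G]

/-- The sum of a representation over a subgroup. -/
noncomputable def groupSum {n : ℕ} (ρ : Representation ℂ G (Fin n → ℂ)) (B : Subgroup G) :
    Module.End ℂ (Fin n → ℂ) := ∑ v : B, ρ v

theorem groupSum_mul {n : ℕ} (ρ : Representation ℂ G (Fin n → ℂ)) {B : Subgroup G} {b : G}
    (hb : b ∈ B) : groupSum ρ B * ρ b = groupSum ρ B := by
  rw [groupSum, Finset.sum_mul]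
  exact Fintype.sum_equiv (Equiv.mulRight (⟨b, hb⟩ : B)) _ _ fun v => by simp

theorem groupSum_eq_zero {n : ℕ} (ρ : Representation ℂ G (Fin n → ℂ)) (B : Subgroup G)
    (h : ∑ v : B, ρ.character v = 0) : groupSum ρ B = 0 := by
  set π := groupSum ρ B
  set f : Module.End ℂ (Fin n → ℂ) := (Fintype.card B : ℂ)⁻¹ • π with hf
  have hc : (Fintype.card B : ℂ) ≠ 0 := Nat.cast_ne_zero.2 Fintype.card_ne_zero
  have h2 : π * π = (Fintype.card B : ℂ) • π := by
    calc π * π = ∑ v : B, π * ρ v := Finset.mul_sum _ _ _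
      _ = ∑ _v : B, π := Finset.sum_congr rfl fun v _ => groupSum_mul ρ v.2
      _ = (Fintype.card B : ℂ) • π := by
        rw [Finset.sum_const, Finset.card_univ, Nat.cast_smul_eq_nsmul]
  have hff : f * f = f := by
    rw [hf, smul_mul_smul_comm, h2, smul_smul, mul_assoc, inv_mul_cancel₀ hc, mul_one]
  have hproj : LinearMap.IsProj (LinearMap.range f) f :=
    ⟨fun x => LinearMap.mem_range_self f x, fun x ⟨y, hy⟩ => by
      rw [← hy, ← Module.End.mul_apply, hff]⟩
  have ht : LinearMap.trace ℂ _ f = 0 := by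
    rw [hf, map_smul, show π = ∑ v : B, ρ v from rfl, map_sum]
    exact (congrArg _ h).trans (mul_zero _)
  rw [hproj.trace, Nat.cast_eq_zero, Submodule.finrank_eq_zero, LinearMap.range_eq_bot] at ht
  rw [hf, smul_eq_zero] at ht
  exact ht.resolve_left (inv_ne_zero hc)

namespace Setup

variable {P : Sylow 2 G} (S : Setup P) {M : Ideal AlgInt} [Fact (Nat.Prime 2)] [M.IsMaximal]
include S

theorem apply_eq (hT : Transitive P) (χ : IrrCharacter G) {a b : G} (ha : a ∈ (P : Subgroup G))
    (ha1 : a ≠ 1) (hb : b ∈ (P : Subgroup G)) (hb1 : b ≠ 1) : χ.1 a = χ.1 b := by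
  obtain ⟨n, -, rfl⟩ := hT a ha ha1 b hb hb1
  exact (CharInt.char_conj_apply (Char.irr_isCharacter χ) a n).symm

/-- The kernel of a character without trivial constituent on `P` is trivial. -/
theorem charKernel_eq_bot (hO : ∀ K : Subgroup G, K.Normal → Odd (Nat.card K) → K = ⊥)
    (hT : Transitive P) (χ : IrrCharacter G) (hsum : ∑ x : (P : Subgroup G), χ.1 x = 0) :
    CharInt.charKernel (Char.irr_isCharacter χ) = ⊥ := by
  set K := CharInt.charKernel (Char.irr_isCharacter χ)
  haveI hKn : K.Normal := CharInt.charKernel_normal _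
  refine hO K hKn ?_
  by_contra hodd
  rw [Nat.not_odd_iff_even, even_iff_two_dvd] at hodd
  obtain ⟨s, hs⟩ := exists_prime_orderOf_dvd_card' 2 hodd
  rw [← Subgroup.orderOf_coe] at hs
  have hpg : IsPGroup 2 (zpowers (s : G)) := IsPGroup.of_card (n := 1) (by
    rw [Nat.card_zpowers, hs, pow_one])
  obtain ⟨Q, hQ⟩ := hpg.exists_le_sylow
  obtain ⟨g, rfl⟩ := MulAction.exists_smul_eq G Q P
  set t := g * (s : G) * g⁻¹
  have htP : t ∈ ((g • Q : Sylow 2 G) : Subgroup G) := ⟨s, hQ (mem_zpowers _), rfl⟩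
  have ht1 : t ≠ 1 := fun h => by
    rw [conj_eq_one_iff.1 h, orderOf_one] at hs
    exact absurd hs (by norm_num)
  have htK : χ.1 t = χ.1 1 := (CharInt.mem_charKernel _).1 (hKn.conj_mem _ s.2 g)
  rw [Finset.sum_congr rfl (g := fun _ => χ.1 1) fun x _ => ?_, Finset.sum_const, Finset.card_univ,
    nsmul_eq_mul] at hsum
  · rcases mul_eq_zero.1 hsum with h | h
    · exact Fintype.card_ne_zero (Nat.cast_eq_zero.1 h)
    · exact CharInt.irr_one_ne_zero χ.2 h
  · by_cases hx : (x : G) = 1
    · rw [hx]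
    · rw [S.apply_eq hT χ x.2 hx htP ht1, htK]

/-- An element of `W` centralizing `B` is killed when it fixes the group sum of `B`. -/
theorem eq_one_of_groupSum (hM : IsPModular 2 M) {χ : IrrCharacter G}
    (hχ : χ ∈ principalBlock M G) (hker : CharInt.charKernel (Char.irr_isCharacter χ) = ⊥)
    {n : ℕ} {ρ : Representation ℂ G (Fin n → ℂ)} (hρ : ρ.character = χ.1) {B : Subgroup G}
    (hB : B ≤ (P : Subgroup G)) {y : G} (hy : y ∈ W P ⊓ centralizer (B : Set G))
    (h : groupSum ρ B * ρ y = groupSum ρ B) : y = 1 := by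
  have h1 : ∑ v : B, χ.1 ((v : G) * y) = ∑ v : B, χ.1 v := by
    have := congrArg (LinearMap.trace ℂ _) h
    simp only [groupSum, Finset.sum_mul, map_sum, ← map_mul] at this
    rw [← hρ]
    exact this
  have h2 : ∀ v : B, v ≠ 1 → χ.1 ((v : G) * y) = χ.1 v := fun v hv => by
    have hv1 : (v : G) ≠ 1 := fun e => hv (Subtype.ext e)
    refine S.apply_mul hM (hB v.2) hv1 hχ ?_
    rw [← S.W_inf (hB v.2) hv1]
    exact ⟨hy.1, mem_centralizer_singleton_iff.2 (mem_centralizer_iff.1 hy.2 v v.2).symm⟩
  rw [← Finset.add_sum_erase _ _ (Finset.mem_univ (1 : B)),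
    ← Finset.add_sum_erase (f := fun v : B => χ.1 v) _ (Finset.mem_univ (1 : B)),
    Finset.sum_congr rfl fun v hv => h2 v (Finset.ne_of_mem_erase hv), add_left_inj,
    OneMemClass.coe_one, one_mul] at h1
  have : y ∈ CharInt.charKernel (Char.irr_isCharacter χ) := (CharInt.mem_charKernel _).2 h1
  rwa [hker, mem_bot] at this

/-- A principal block character without fixed points on `P` forces `W = ⊥`. -/
theorem W_eq_bot_of_sum_eq_zero (hO : ∀ K : Subgroup G, K.Normal → Odd (Nat.card K) → K = ⊥)
    (hM : IsPModular 2 M) (hT : Transitive P) {χ : IrrCharacter G}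
    (hχ : χ ∈ principalBlock M G) (hsum : ∑ x : (P : Subgroup G), χ.1 x = 0) : W P = ⊥ := by
  haveI : IsMulCommutative (P : Subgroup G) := ⟨⟨fun a b => Subtype.ext (S.comm a.2 b.2)⟩⟩
  have hker := S.charKernel_eq_bot hO hT χ hsum
  obtain ⟨n, ρ, -, hρ⟩ := χ.2
  have hP0 : groupSum ρ (P : Subgroup G) = 0 := groupSum_eq_zero ρ _ (by rw [hρ]; exact hsum)
  have hCP : ∀ y ∈ W P ⊓ centralizer ((P : Subgroup G) : Set G), y = 1 := fun y hy =>
    S.eq_one_of_groupSum hM hχ hker hρ le_rfl hy (by rw [hP0, zero_mul])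
  have hWn : ∀ {t w : G}, t ∈ (P : Subgroup G) → w ∈ W P → t * w * t⁻¹ ∈ W P := fun ht hw =>
    (mem_normalizer_iff.1 (S.N_le_normalizer_W (le_normalizer ht)) _).1 hw
  refine eq_bot_iff.2 (Coprime.le_of_forall_cyclic_quotient
    ((le_normalizer).trans S.N_le_normalizer_W) ?_ ?_)
  · obtain ⟨k, hk⟩ := IsPGroup.iff_card.1 P.2
    rw [hk]
    exact (Nat.coprime_two_left.2 S.W_odd).pow_left k
  rintro B hB ⟨a, ha, hBa⟩ y ⟨hyW, hyB⟩
  refine mem_bot.2 ?_
  -- `a` inverts the centralizer of `B` in `W`
  set V := W P ⊓ centralizer (B : Set G)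
  have hV : ∀ w ∈ V, a * w * a⁻¹ ∈ V := by
    rintro w ⟨hwW, hwB⟩
    refine ⟨hWn ha hwW, mem_centralizer_iff.2 fun b hb => ?_⟩
    have h1 := mem_centralizer_iff.1 hwB b hb
    have h2 := S.comm (hB hb) ha
    calc b * (a * w * a⁻¹) = (b * a) * w * a⁻¹ := by group
      _ = a * (b * w) * a⁻¹ := by rw [h2]; group
      _ = a * w * (b * a⁻¹) := by rw [h1]; group
      _ = a * w * a⁻¹ * b := by rw [S.inv_eq ha, h2]; group
  let φ : V →* V :=
    { toFun := fun x => ⟨a * x * a⁻¹, hV x x.2⟩
      map_one' := Subtype.ext (by simp)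
      map_mul' := fun x x' => Subtype.ext (by simp [mul_assoc]) }
  have hinvol : Function.Involutive φ := fun x => Subtype.ext (by
    show a * (a * (x : G) * a⁻¹) * a⁻¹ = x
    rw [show a * (a * (x : G) * a⁻¹) * a⁻¹ = a * a * x * (a * a)⁻¹ by group, S.sq a ha]
    simp)
  have hfpf : MonoidHom.FixedPointFree φ := fun x hx => Subtype.ext <| by
    refine hCP x ⟨x.2.1, ?_⟩
    rw [← hBa]
    refine mem_centralizer_iff.2 fun z hz => ?_
    have hle : B ⊔ zpowers a ≤ centralizer ({(x : G)} : Set G) := sup_le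
      (fun b hb => mem_centralizer_singleton_iff.2 (mem_centralizer_iff.1 x.2.2 b hb))
      (zpowers_le.2 (mem_centralizer_singleton_iff.2
        (mul_inv_eq_iff_eq_mul.1 (congrArg Subtype.val hx))))
    exact mem_centralizer_singleton_iff.1 (hle hz)
  have hinv : a * y * a⁻¹ = y⁻¹ :=
    congrArg Subtype.val (congrFun (hfpf.coe_eq_inv_of_involutive hinvol) ⟨y, hyW, hyB⟩)
  set π := groupSum ρ B
  have hπa : π * ρ a = -π := by
    by_cases haB : a ∈ B
    · have hBP : B = (P : Subgroup G) := by rw [← hBa, sup_of_le_left (zpowers_le.2 haB)]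
      have : π = 0 := by
        show groupSum ρ B = 0
        rw [hBP]
        exact hP0
      rw [this, zero_mul, neg_zero]
    · have hsplit : groupSum ρ (P : Subgroup G) = π + π * ρ a := by
        have hmemBa : ∀ b ∈ B, b * a ∈ (P : Subgroup G) := fun b hb => mul_mem (hB hb) ha
        let g : B ⊕ B → (P : Subgroup G) :=
          Sum.elim (fun b => ⟨b, hB b.2⟩) (fun b => ⟨b * a, hmemBa b b.2⟩)
        have hg : Function.Bijective g := by
          refine ⟨?_, ?_⟩
          · rintro (b | b) (c | c) e <;> simp only [g, Sum.elim_inl, Sum.elim_inr,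
              Subtype.mk.injEq] at e
            · exact congrArg _ (Subtype.ext e)
            · exact absurd (by
                have := mul_mem (inv_mem c.2) b.2
                rwa [e, inv_mul_cancel_left] at this : a ∈ B) haB
            · exact absurd (by
                have := mul_mem (inv_mem b.2) c.2
                rwa [← e, inv_mul_cancel_left] at this : a ∈ B) haB
            · exact congrArg _ (Subtype.ext (mul_right_cancel e))
          · rintro ⟨x, hx⟩
            rw [← hBa, ← SetLike.mem_coe, coe_mul_of_right_le_normalizer_left _ _ ?_] at hx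
            · obtain ⟨c, hc, d, hd, rfl⟩ := hx
              obtain ⟨i, rfl⟩ := mem_zpowers_iff.1 hd
              rcases Int.even_or_odd' i with ⟨k, rfl | rfl⟩
              · exact ⟨Sum.inl ⟨c, hc⟩, Subtype.ext (by
                  simp [g, zpow_mul, zpow_ofNat, pow_two, S.sq a ha])⟩
              · exact ⟨Sum.inr ⟨c, hc⟩, Subtype.ext (by
                  simp [g, zpow_add, zpow_mul, zpow_ofNat, pow_two, S.sq a ha])⟩
            · refine fun c hc => mem_normalizer_iff.2 fun b => ?_
              have hcP : c ∈ (P : Subgroup G) := zpowers_le.2 ha hc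
              constructor
              · intro hb
                rwa [S.comm hcP (hB hb), mul_inv_cancel_right]
              · intro hb
                have hbP : b ∈ (P : Subgroup G) := by
                  simpa [mul_assoc] using mul_mem (mul_mem (inv_mem hcP) (hB hb)) hcP
                rwa [S.comm hcP hbP, mul_inv_cancel_right] at hb
        rw [groupSum, ← hg.sum_comp (fun x => ρ (x : G)), Fintype.sum_sum_type]
        simp only [g, Sum.elim_inl, Sum.elim_inr, map_mul, ← Finset.sum_mul]
        rfl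
      rw [hP0] at hsplit
      exact eq_neg_of_add_eq_zero_right hsplit.symm
  have hyodd : Odd (orderOf y) := S.W_odd.of_dvd_nat ((W P).orderOf_dvd_natCard hyW)
  have hcomm : ∀ {z : G}, (∀ b ∈ B, b * z = z * b) → π * ρ z = ρ z * π := fun {z} hz => by
    simp only [π, groupSum, Finset.sum_mul, Finset.mul_sum, ← map_mul]
    exact Finset.sum_congr rfl fun b _ => by rw [hz b b.2]
  have ha' : π * ρ a = ρ a * π := hcomm fun b hb => S.comm (hB hb) ha
  have hy' : π * ρ y = ρ y * π := hcomm fun b hb => mem_centralizer_iff.1 hyB b hb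
  have hya : π * ρ y⁻¹ = π * ρ y := by
    rw [← hinv, S.inv_eq ha, map_mul, map_mul]
    calc π * (ρ a * ρ y * ρ a) = (π * ρ a) * ρ y * ρ a := by simp only [mul_assoc]
      _ = -π * ρ y * ρ a := by rw [hπa]
      _ = -(ρ y * (π * ρ a)) := by
        rw [← mul_assoc (ρ y), ← hy']
        exact (congrArg (· * ρ a) (neg_mul π (ρ y))).trans (neg_mul (π * ρ y) (ρ a))
      _ = π * ρ y := by
        rw [hπa, hy']
        exact (congrArg Neg.neg (mul_neg (ρ y) π)).trans (neg_neg _)
  have hy2 : π * ρ (y * y) = π := by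
    rw [map_mul, ← mul_assoc, ← hya, mul_assoc, ← map_mul, inv_mul_cancel, map_one, mul_one]
  have hpow : ∀ k : ℕ, π * ρ ((y * y) ^ k) = π := fun k => by
    induction k with
    | zero => simp
    | succ k ih => rw [pow_succ, map_mul, ← mul_assoc, ih, hy2]
  obtain ⟨k, hk⟩ := hyodd
  refine S.eq_one_of_groupSum hM hχ hker hρ hB ⟨hyW, hyB⟩ ?_
  have hy3 : y = (y * y) ^ (k + 1) := by
    rw [← pow_two, ← pow_mul, show 2 * (k + 1) = orderOf y + 1 by omega, pow_succ, pow_orderOf_eq_one,
      one_mul]
  rw [hy3]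
  exact hpow _

end Setup

end Cfsg.Agent.InvolRankOne
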