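import Cfsg.Agent.Lib.InvolRankOne.Setup
import Cfsg.Agent.Lib.BlockCount.Involve
import Cfsg.Agent.Lib.Blocks.ThirdMain
import Cfsg.Agent.Lib.Char.RationalBound
import Cfsg.Agent.S4606

/-!
# The principal block at an involution with a 2-nilpotent centralizer

Every member of the block is constant on `a O(C(a))`, the squared values sum to `|P|`, so the
characters outside the block sum to zero over `a O(C(a))` by the second orthogonality relation.
-/

set_option autoImplicit false
set_option linter.style.haveILetI false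
set_option linter.unusedSectionVars false

namespace Cfsg.Agent.InvolRankOne

open Cfsg Subgroup
open scoped ComplexConjugate Classical

universe u

variable {G : Type u} [Group G] [Fintype G]

/-- The elements conjugating `a` to `b`. -/
theorem card_conj_eq (a b : G) : Nat.card {g : G // g * a * g⁻¹ = b} =
    if IsConj a b then Nat.card (centralizer ({b} : Set G)) else 0 := by
  split_ifs with h
  · obtain ⟨g₀, hg₀⟩ := isConj_iff.1 h
    refine Nat.card_congr
      { toFun := fun g => ⟨g.1 * g₀⁻¹, mem_centralizer_singleton_iff.2 ?_⟩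
        invFun := fun c => ⟨c.1 * g₀, ?_⟩
        left_inv := fun g => Subtype.ext (by simp)
        right_inv := fun c => Subtype.ext (by simp) }
    · calc g.1 * g₀⁻¹ * b = g.1 * g₀⁻¹ * (g₀ * a * g₀⁻¹) := by rw [hg₀]
        _ = g.1 * a * g.1⁻¹ * (g.1 * g₀⁻¹) := by group
        _ = b * (g.1 * g₀⁻¹) := by rw [g.2]
    · have hc := mem_centralizer_singleton_iff.1 c.2
      rw [show c.1 * g₀ * a * (c.1 * g₀)⁻¹ = c.1 * (g₀ * a * g₀⁻¹) * c.1⁻¹ by group, hg₀, hc]
      group
  · haveI : IsEmpty {g : G // g * a * g⁻¹ = b} := ⟨fun g => h (isConj_iff.2 ⟨g.1, g.2⟩)⟩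
    exact Nat.card_of_isEmpty

theorem sum_irr_mul_conj_eq (a b : G) :
    ∑ χ : IrrCharacter G, χ.1 a * conj (χ.1 b) = (Nat.card {g : G // g * a * g⁻¹ = b} : ℂ) := by
  rw [Char.sum_irr_mul_conj, card_conj_eq]
  split_ifs <;> simp

namespace Setup

variable {P : Sylow 2 G} (S : Setup P) {M : Ideal AlgInt} [Fact (Nat.Prime 2)] [M.IsMaximal]
include S

theorem two_pow {a : G} (ha : a ∈ (P : Subgroup G)) (ha1 : a ≠ 1) :
    ∃ k, orderOf a = 2 ^ k := ⟨1, by rw [pow_one, S.orderOf_eq_two ha ha1]⟩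

/-- Members of the principal block are constant on `a O(C(a))`. -/
theorem apply_mul (hM : IsPModular 2 M) {a : G} (ha : a ∈ (P : Subgroup G)) (ha1 : a ≠ 1)
    {χ : IrrCharacter G} (hχ : χ ∈ principalBlock M G) {y : G} (hy : y ∈ O a) :
    χ.1 (a * y) = χ.1 a :=
  Blocks.principal_apply_mul_core hM.2.2 (S.two_pow ha ha1) hy hχ

theorem exists_int {a : G} (ha : a ∈ (P : Subgroup G)) (χ : IrrCharacter G) :
    ∃ z : ℤ, χ.1 a = z :=
  Char.exists_int_of_forall_pow (Char.irr_isCharacter χ) a fun k hk => by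
    by_cases ha1 : a = 1
    · simp [ha1]
    rw [S.orderOf_eq_two ha ha1, Nat.coprime_two_right] at hk
    obtain ⟨j, rfl⟩ := hk
    rw [pow_succ, pow_mul, pow_two, S.sq a ha, one_pow, one_mul]

theorem apply_ne_zero (hM : IsPModular 2 M) {a : G} (ha : a ∈ (P : Subgroup G))
    {χ : IrrCharacter G} (hχ : χ ∈ principalBlock M G) : χ.1 a ≠ 0 := by
  intro h0
  have h : MemLocalIdeal M (centralChar (fun _ : G => (1 : ℂ)) a - centralChar χ.1 a) := hχ a
  simp only [centralChar, h0, mul_zero, zero_div, sub_zero, mul_one, div_one] at h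
  exact P.not_dvd_index (((Blocks.memLocalIdeal_natCast_iff hM.2.2 _).1 h).trans
    (index_dvd_of_le (S.le_cent ha)))

theorem sum_sq (hM : IsPModular 2 M) {a : G} (ha : a ∈ (P : Subgroup G)) (ha1 : a ≠ 1) :
    ∑ χ ∈ Finset.univ.filter (· ∈ principalBlock M G), χ.1 a * conj (χ.1 a) =
      (Nat.card (P : Subgroup G) : ℂ) := by
  haveI := Fintype.ofFinite (centralizer ({a} : Set G))
  have hx := S.two_pow ha ha1
  have h1 : IsPRegular 2 (1 : centralizer ({a} : Set G)) := by simp [IsPRegular]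
  have := Blocks.second_main_orth hM.2.2 hx (Blocks.isPBlock_principalBlock hM.2.2 (G := G)) h1 h1
  simp only [OneMemClass.coe_one, mul_one] at this
  rw [this, Blocks.inducingSet_principalBlock hM.2.2 hx]
  obtain ⟨hidx, -⟩ := DefectOne.index_pPrimeCore_of_hasNormalPComplement
    (S.hasNormalPComplement ha ha1)
  rw [Finset.sum_congr (s₂ := Finset.univ.filter
      fun η : IrrCharacter (centralizer ({a} : Set G)) =>
        Char.TrivOn (pPrimeCore 2 (centralizer ({a} : Set G))) η.1)
      (Finset.filter_congr fun η _ => by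
      rw [Blocks.principalBlock_eq_of_index hM.2.2 ⟨_, hidx⟩]; rfl) fun η _ =>
      show η.1 1 * conj (η.1 1) = ((charDegree η.1 ^ 2 : ℕ) : ℂ) by
        rw [← Char.charDegree_cast, map_natCast]; push_cast; ring,
    ← Nat.cast_sum, Char.sum_trivOn_degree_sq, hidx,
    ← (P.subtype (S.le_cent ha)).card_eq_multiplicity, Sylow.coe_subtype,
    Nat.card_congr (subgroupOfEquivOfLe (S.le_cent ha)).toEquiv]

/-- Outside the principal block the sum over `a O(C(a))` vanishes. -/
theorem sum_eq_zero (hM : IsPModular 2 M) {a : G} (ha : a ∈ (P : Subgroup G)) (ha1 : a ≠ 1)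
    {χ : IrrCharacter G} (hχ : χ ∉ principalBlock M G) :
    ∑ y : O a, χ.1 (a * y) = 0 := by
  set A : IrrCharacter G → ℂ := fun ψ => ∑ y : O a, ψ.1 (a * y)
  set B := Finset.univ.filter (fun ψ : IrrCharacter G => ψ ∈ principalBlock M G)
  have hall : ∑ ψ : IrrCharacter G, A ψ * conj (A ψ) =
      (Nat.card (centralizer ({a} : Set G)) : ℂ) * Nat.card (O a) := by
    simp only [A, map_sum, Finset.sum_mul, Finset.mul_sum]
    rw [Finset.sum_comm]
    have h1 : ∀ y : O a, ∑ ψ : IrrCharacter G, ∑ y' : O a, ψ.1 (a * y') * conj (ψ.1 (a * y)) =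
        (Nat.card (centralizer ({a} : Set G)) : ℂ) := fun y => by
      rw [Finset.sum_comm]
      simp only [sum_irr_mul_conj_eq]
      rw [← Nat.cast_sum, ← Nat.card_sigma]
      congr 1
      refine Nat.card_congr (Equiv.ofBijective
        (fun p => ⟨p.2.1, ?_⟩) ⟨?_, ?_⟩)
      · obtain ⟨y', g, hg⟩ := p
        dsimp only
        have hpow : ∀ v : O a, (a * (v : G)) ^ (Nat.card (O a)) = a := fun v => by
          have hv := ((S.mem_O_iff ha ha1).1 v.2).1
          rw [(show Commute a (v : G) from (mem_centralizer_singleton_iff.1 hv).symm).mul_pow,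
            ← coe_pow, pow_card_eq_one', OneMemClass.coe_one, mul_one]
          obtain ⟨j, hj⟩ := S.O_odd ha ha1
          rw [hj, pow_succ, pow_mul, pow_two, S.sq a ha, one_pow, one_mul]
        have := congrArg (· ^ Nat.card (O a)) hg
        simp only [conj_pow, hpow] at this
        exact mem_centralizer_singleton_iff.2 (mul_inv_eq_iff_eq_mul.1 this)
      · rintro ⟨y₁, g₁, h₁⟩ ⟨y₂, g₂, h₂⟩ e
        obtain rfl : g₁ = g₂ := congrArg Subtype.val e
        obtain rfl : y₁ = y₂ := Subtype.ext (mul_left_cancel (mul_left_cancel (mul_right_cancel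
          (h₁.trans h₂.symm))))
        rfl
      · rintro ⟨g, hg⟩
        refine ⟨⟨⟨g⁻¹ * y * g, ?_⟩, g, ?_⟩, rfl⟩
        · simpa using S.conj_mem_O ha ha1 (inv_mem hg) y.2
        · show g * (a * (g⁻¹ * y * g)) * g⁻¹ = a * y
          rw [← mul_assoc g a, mem_centralizer_singleton_iff.1 hg]
          group
    rw [Finset.sum_congr rfl fun y _ => h1 y, Finset.sum_const, Finset.card_univ, nsmul_eq_mul,
      ← Nat.card_eq_fintype_card, mul_comm]
  have hB : ∑ ψ ∈ B, A ψ * conj (A ψ) =
      (Nat.card (centralizer ({a} : Set G)) : ℂ) * Nat.card (O a) := by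
    have hA : ∀ ψ ∈ B, A ψ = (Nat.card (O a) : ℂ) * ψ.1 a := fun ψ hψ => by
      simp only [A]
      rw [Finset.sum_congr rfl fun y _ =>
        S.apply_mul hM ha ha1 (Finset.mem_filter.1 hψ).2 y.2, Finset.sum_const, Finset.card_univ,
        nsmul_eq_mul, ← Nat.card_eq_fintype_card]
    rw [Finset.sum_congr rfl (g := fun ψ => (Nat.card (O a) : ℂ) * Nat.card (O a) *
        (ψ.1 a * conj (ψ.1 a))) fun ψ hψ => by rw [hA ψ hψ, map_mul, map_natCast]; ring,
      ← Finset.mul_sum, S.sum_sq hM ha ha1, S.card_C ha ha1]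
    push_cast
    ring
  have hrest : ∑ ψ ∈ Finset.univ \ B, Complex.normSq (A ψ) = 0 := by
    have e : ∑ ψ ∈ Finset.univ \ B, A ψ * conj (A ψ) = 0 := by
      have := Finset.sum_sdiff (f := fun ψ => A ψ * conj (A ψ)) (Finset.subset_univ B)
      rw [hall, hB] at this
      linear_combination this
    refine Complex.ofReal_injective ?_
    rw [Complex.ofReal_sum, Complex.ofReal_zero, ← e]
    exact Finset.sum_congr rfl fun ψ _ => (Complex.mul_conj _).symm
  exact Complex.normSq_eq_zero.1 ((Finset.sum_eq_zero_iff_of_nonneg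
    fun ψ _ => Complex.normSq_nonneg (A ψ)).1 hrest χ (by simp [B, hχ]))

/-- The multiplicity of the trivial character of `P`. -/
theorem exists_mult (χ : IrrCharacter G) :
    ∃ r : ℕ, ∑ x : (P : Subgroup G), χ.1 x = (Nat.card (P : Subgroup G) : ℂ) * r := by
  obtain ⟨r, hr⟩ := Char.IsCharacter.exists_nat_classInner
    (Char.IsCharacter.restrict (Char.irr_isCharacter χ) (P : Subgroup G)) Char.isCharacter_one
  refine ⟨r, ?_⟩
  rw [← hr, classInner, ← mul_assoc, mul_inv_cancel₀ (Nat.cast_ne_zero.2 Nat.card_pos.ne'), one_mul]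
  simp

end Setup

end Cfsg.Agent.InvolRankOne
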